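/-
The special linear group is not inside the geometric members; maximal subgroups contain the central scalars.
-/
import Cfsg.Agent.Lib.Techniques.AschPrime.Forms
import Cfsg.Agent.Lib.Classical22.Asch.Coords
import Cfsg.Agent.Lib.Classical22.Asch.Members

set_option autoImplicit false

namespace CfsgLib.Techniques.AschSL

open Matrix CfsgLib.Transvec CfsgLib.Techniques.AschPrime
open scoped MatrixGroups Kronecker commutatorElement

variable {ι : Type} [Fintype ι] [DecidableEq ι] {F : Type*} [Field F]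

/-- A transvection as a commutator of two transvections. -/
theorem transv_commutator {v w ψ φ : ι → F} (hψv : ψ ⬝ᵥ v = 0) (hψw : ψ ⬝ᵥ w = 1) (hφv : φ ⬝ᵥ v = 0)
    (hφw : φ ⬝ᵥ w = 0) : ⁅transv v ψ, transv w φ⁆ = transv v φ := by
  refine gl_ext fun x => ?_
  have hn : (-ψ) ⬝ᵥ v = 0 := by rw [neg_dotProduct, hψv, neg_zero]
  have hn' : (-φ) ⬝ᵥ w = 0 := by rw [neg_dotProduct, hφw, neg_zero]
  rw [commutatorElement_def, transv_inv hψv, transv_inv hφw]
  simp only [CfsgLib.Transvec.mul_mulVec, transv_mulVec hψv, transv_mulVec hφw, transv_mulVec hφv, transv_mulVec hn,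
    transv_mulVec hn', neg_dotProduct, dotProduct_add, dotProduct_smul, hψv, hψw, hφv, hφw, smul_eq_mul, mul_zero,
    add_zero, mul_one]
  module

/-- A maximal subgroup absorbs the central scalars. -/
theorem sup_scalars_ne (h3 : 3 ≤ Fintype.card ι) {H : Subgroup (GL ι F)}
    (hH : Cfsg.Geo.IsMaximalIn (Cfsg.Geo.specialLinear ι F) H) :
    H ⊔ (Cfsg.Geo.scalars ι F ⊓ Cfsg.Geo.specialLinear ι F) ≠ Cfsg.Geo.specialLinear ι F := by
  intro heq
  refine hH.1.not_ge (specialLinear_le fun v φ hφv => ?_)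
  by_cases hv : v = 0
  · have : transv v φ = 1 := gl_ext fun x => by
      rw [transv_mulVec hφv, hv, smul_zero, add_zero, Units.val_one, one_mulVec]
    rw [this]; exact H.one_mem
  obtain ⟨w, hw, hwv⟩ : ∃ w, φ ⬝ᵥ w = 0 ∧ w ∉ Submodule.span F {v} := by
    let L : (ι → F) →ₗ[F] F :=
      { toFun := fun x => φ ⬝ᵥ x
        map_add' := fun a b => dotProduct_add φ a b
        map_smul' := fun a b => by simp [dotProduct_smul] }
    obtain ⟨w, hw, hwv⟩ : ∃ w ∈ LinearMap.ker L, w ∉ Submodule.span F {v} := SetLike.not_le_iff_exists.mp fun hle => by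
      have h1 := Submodule.finrank_mono hle
      rw [finrank_span_singleton hv] at h1
      have h2 := LinearMap.finrank_range_add_finrank_ker L
      have h4 := Submodule.finrank_le (LinearMap.range L)
      rw [Module.finrank_self] at h4
      rw [Module.finrank_fintype_fun_eq_card] at h2
      omega
    exact ⟨w, hw, hwv⟩
  obtain ⟨ψ, hψ, hψw⟩ := exists_functional hwv
  rw [← transv_commutator (hψ v (Submodule.mem_span_singleton_self v)) hψw hφv hw]
  have hmem : ∀ s ∈ Cfsg.Geo.specialLinear ι F, ∃ h ∈ H, ∃ z ∈ Cfsg.Geo.scalars ι F, h * z = s := by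
    intro s hs
    rw [← heq] at hs
    have hle : H ⊔ (Cfsg.Geo.scalars ι F ⊓ Cfsg.Geo.specialLinear ι F) ≤ H ⊔ Cfsg.Geo.scalars ι F :=
      sup_le_sup_left inf_le_left H
    exact Subgroup.mem_sup_of_normal_right.mp (hle hs)
  obtain ⟨h, hh, a, ha, e1⟩ := hmem _ (transv_mem_specialLinear v ψ)
  obtain ⟨k, hk, b, hb, e2⟩ := hmem _ (transv_mem_specialLinear w φ)
  rw [← e1, ← e2, commutatorElement_def,
    show h * a * (k * b) * (h * a)⁻¹ * (k * b)⁻¹ = h * (a * k) * (b * (a⁻¹ * h⁻¹)) * (b⁻¹ * k⁻¹) by group,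
    scalars_comm ha k, scalars_comm hb (a⁻¹ * h⁻¹),
    show h * (k * a) * (a⁻¹ * h⁻¹ * b) * (b⁻¹ * k⁻¹) = h * k * h⁻¹ * k⁻¹ by group]
  exact H.mul_mem (H.mul_mem (H.mul_mem hh hk) (H.inv_mem hh)) (H.inv_mem hk)

theorem not_le_subspaceStabilizer {W : Submodule F (ι → F)} (h0 : W ≠ ⊥) (h1 : W ≠ ⊤) :
    ¬ Cfsg.Geo.specialLinear ι F ≤ Cfsg.Geo.subspaceStabilizer W := fun hle => by
  obtain ⟨g, hg, hg'⟩ := exists_transv_not_stab h0 h1
  exact hg' (hle hg)

theorem not_le_decompositionStabilizer {t m : ℕ} {D : Fin t → Submodule F (ι → F)}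
    (hD : Cfsg.Geo.IsMDecomposition m D) : ¬ Cfsg.Geo.specialLinear ι F ≤ Cfsg.Geo.decompositionStabilizer D := by
  intro hle
  have h2 := hD.two_le
  have hpick : ∀ i, ∃ v ∈ D i, v ≠ (0 : ι → F) := fun i =>
    Submodule.exists_mem_ne_zero_of_ne_bot fun h => by
      have h1 := hD.finrank_eq i
      rw [h, finrank_bot] at h1
      exact hD.pos.ne h1
  let i₀ : Fin t := ⟨0, by omega⟩
  let i₁ : Fin t := ⟨1, by omega⟩
  have h01 : i₀ ≠ i₁ := by simp [i₀, i₁]
  obtain ⟨v, hv, hv0⟩ := hpick i₀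
  obtain ⟨u, hu, hu0⟩ := hpick i₁
  have hdis : ∀ {i j : Fin t} {x : ι → F}, i ≠ j → x ∈ D i → x ∈ D j → x = 0 := fun hij hi hj =>
    Submodule.disjoint_def.mp (hD.indep.pairwiseDisjoint hij) _ hi hj
  have hnot : v ∉ Submodule.span F {u} := fun h => by
    obtain ⟨a, rfl⟩ := Submodule.mem_span_singleton.mp h
    exact hv0 (hdis h01 hv ((D i₁).smul_mem a hu))
  obtain ⟨φ, hφ, hφ0⟩ := exists_functional hnot
  have hd := hφ _ (Submodule.mem_span_singleton_self u)
  obtain ⟨π, hπ⟩ := hle (transv_mem_specialLinear u φ)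
  have hmem : v + u ∈ D (π i₀) := by
    rw [← hπ i₀]
    exact ⟨v, hv, by rw [Matrix.toLin'_apply, transv_mulVec hd, hφ0, one_smul]⟩
  by_cases hk0 : π i₀ = i₀
  · rw [hk0] at hmem
    have := (D i₀).sub_mem hmem hv
    rw [add_sub_cancel_left] at this
    exact hu0 (hdis h01 this hu)
  by_cases hk1 : π i₀ = i₁
  · rw [hk1] at hmem
    have := (D i₁).sub_mem hmem hu
    rw [add_sub_cancel_right] at this
    exact hv0 (hdis h01 hv this)
  have hsum : v + u ∈ ⨆ j ∈ ({i₀, i₁} : Set (Fin t)), D j := Submodule.add_mem _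
    (le_iSup₂ (f := fun j (_ : j ∈ ({i₀, i₁} : Set (Fin t))) => D j) i₀ (by simp) hv)
    (le_iSup₂ (f := fun j (_ : j ∈ ({i₀, i₁} : Set (Fin t))) => D j) i₁ (by simp) hu)
  have hz := Submodule.disjoint_def.mp (hD.indep.disjoint_biSup (y := ({i₀, i₁} : Set (Fin t)))
    (by simp [hk0, hk1])) _ hmem hsum
  exact hv0 (hdis h01 hv (by rw [eq_neg_of_add_eq_zero_left hz]; exact (D i₁).neg_mem hu))

omit [Fintype ι] in
theorem transvGL_exists {κ : Type} [Fintype κ] [DecidableEq κ] {x y : κ} (hxy : x ≠ y) :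
    ∃ z : GL κ F, (z : Matrix κ κ F).det = 1 ∧ (z : Matrix κ κ F) = Matrix.transvection x y 1 := by
  refine ⟨Matrix.GeneralLinearGroup.mk'' (Matrix.transvection x y 1) ?_, ?_, rfl⟩
  · rw [det_transvection_of_ne x y hxy]; exact isUnit_one
  · exact det_transvection_of_ne x y hxy 1

theorem exists_mem_toCoord {κ : Type} [Fintype κ] [DecidableEq κ] (e : ι ≃ κ) (P : GL ι F) {x y : κ} (hxy : x ≠ y) :
    ∃ g ∈ Cfsg.Geo.specialLinear ι F, CfsgLib.Classical22.Asch.toCoord e P (g : Matrix ι ι F) =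
      Matrix.transvection x y 1 := by
  obtain ⟨z, hz, hzv⟩ := transvGL_exists (F := F) hxy
  set g := P * Cfsg.Geo.glReindex e.symm z * P⁻¹ with hg
  have hR : ((Cfsg.Geo.glReindex e.symm z : GL ι F) : Matrix ι ι F) = Matrix.reindex e.symm e.symm (z : Matrix κ κ F) :=
    rfl
  refine ⟨g, ?_, ?_⟩
  · rw [mem_specialLinear_iff, hg, Units.val_mul, Units.val_mul, det_mul, det_mul, hR, det_reindex_self, hz, mul_one,
      ← det_mul, ← Units.val_mul, mul_inv_cancel, Units.val_one, det_one]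
  · rw [← hzv, CfsgLib.Classical22.Asch.toCoord_eq_iff, hg, Units.val_mul, Units.val_mul, Matrix.mul_assoc _ _ (P : Matrix ι ι F),
      Units.inv_mul, Matrix.mul_one, hR]
    rfl

theorem not_le_tensorProductSubgroup {a b : ℕ} (ha : 2 ≤ a) (hb : 2 ≤ b) (e : ι ≃ Fin a × Fin b) (P : GL ι F) :
    ¬ Cfsg.Geo.specialLinear ι F ≤ Cfsg.Geo.tensorProductSubgroup a b e P := by
  intro hle
  let i : Fin a := ⟨0, by omega⟩
  let j : Fin a := ⟨1, by omega⟩
  let k : Fin b := ⟨0, by omega⟩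
  let l : Fin b := ⟨1, by omega⟩
  have hij : i ≠ j := by simp [i, j]
  have hkl : k ≠ l := by simp [k, l]
  obtain ⟨g, hg, hgc⟩ := exists_mem_toCoord e P (x := (i, k)) (y := (j, l))
    (fun h => hij (congrArg Prod.fst h))
  obtain ⟨z, ⟨A, B, hz⟩, hgz⟩ := CfsgLib.Classical22.Asch.exists_toCoord_of_mem (hle hg)
  rw [hgc, hz] at hgz
  have h1 := congrFun (congrFun hgz (i, k)) (j, l)
  have h2 := congrFun (congrFun hgz (i, k)) (i, k)
  have h3 := congrFun (congrFun hgz (i, k)) (j, k)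
  simp [Matrix.transvection, Matrix.single, hij, hkl, hkl.symm] at h1 h2 h3
  rcases h3 with h3 | h3
  · rw [h3, zero_mul] at h1; exact one_ne_zero h1
  · rw [h3, mul_zero] at h2; exact one_ne_zero h2

theorem not_le_tensorWreathSubgroup [Finite F] {m t : ℕ} (hm : 2 ≤ m) (ht : 2 ≤ t) (e : ι ≃ (Fin t → Fin m))
    (P : GL ι F) : ¬ Cfsg.Geo.specialLinear ι F ≤ Cfsg.Geo.tensorWreathSubgroup m t e P := by
  intro hle
  let a : Fin m := ⟨0, by omega⟩
  let b : Fin m := ⟨1, by omega⟩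
  have hab : a ≠ b := by simp [a, b]
  let i₀ : Fin t := ⟨0, by omega⟩
  let i₁ : Fin t := ⟨1, by omega⟩
  have h01 : i₀ ≠ i₁ := by simp [i₀, i₁]
  have hne : (fun _ : Fin t => a) ≠ fun _ => b := fun h => hab (congrFun h i₀)
  obtain ⟨g, hg, hgc⟩ := exists_mem_toCoord e P hne
  obtain ⟨z, hz, hgz⟩ := CfsgLib.Classical22.Asch.exists_toCoord_of_mem (hle hg)
  obtain ⟨π, A, hzA⟩ := CfsgLib.Classical22.TensorMono.standard_form hz
  rw [hgc, hzA] at hgz
  have h1 := congrFun (congrFun hgz fun _ => a) fun _ => a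
  have h2 := congrFun (congrFun hgz fun _ => a) fun _ => b
  have h3 := congrFun (congrFun hgz fun _ => a) (Function.update (fun _ => a) i₀ b)
  have hu1 : (Function.update (fun _ : Fin t => a) i₀ b) ≠ fun _ => a := fun h => hab (by
    simpa using (congrFun h i₀).symm)
  have hu2 : (Function.update (fun _ : Fin t => a) i₀ b) ≠ fun _ => b := fun h => hab (by
    simpa [h01.symm] using congrFun h i₁)
  rw [Matrix.transvection, Matrix.add_apply, CfsgLib.Classical22.TensorMono.wr_apply] at h1 h2 h3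
  rw [Matrix.one_apply_eq, Matrix.single_apply, if_neg (fun h => hne h.2.symm), add_zero] at h1
  rw [Matrix.one_apply_ne hne, Matrix.single_apply, if_pos ⟨rfl, rfl⟩, zero_add] at h2
  rw [Matrix.one_apply_ne hu1.symm, Matrix.single_apply, if_neg (fun h => hu2 h.2.symm), zero_add] at h3
  obtain ⟨i, -, hi⟩ := Finset.prod_eq_zero_iff.mp h3.symm
  by_cases hπ : π i = i₀
  · simp only [hπ, Function.update_self] at hi
    exact one_ne_zero (h2.trans (Finset.prod_eq_zero (Finset.mem_univ i) hi))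
  · simp only [Function.update_of_ne hπ] at hi
    exact one_ne_zero (h1.trans (Finset.prod_eq_zero (Finset.mem_univ i) hi))

/-- The special linear group does not normalise an irreducible group of p'-exponent prime power order. -/
theorem not_le_normalizer [Finite F] (h4 : 4 ≤ Fintype.card ι) {r p : ℕ} [CharP F p] (hp : p.Prime) (hrp : r ≠ p)
    (hr : r.Prime) {R : Subgroup (GL ι F)} (hpg : IsPGroup r R) (hirr : Irr R) :
    ¬ Cfsg.Geo.specialLinear ι F ≤ Cfsg.Geo.subgroupNormalizer R := by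
  intro hle
  haveI : Nonempty ι := Fintype.card_pos_iff.mp (by omega)
  obtain ⟨x, hx, v, hv⟩ : ∃ x ∈ R, ∃ v : ι → F, ∀ a : F, (x : Matrix ι ι F) *ᵥ v ≠ a • v := by
    by_contra hno
    push Not at hno
    have hne : (Pi.single (Classical.arbitrary ι) 1 : ι → F) ≠ 0 := by simp
    rcases (irr_iff R).mp hirr (Submodule.span F {(Pi.single (Classical.arbitrary ι) 1 : ι → F)}) (fun g hg w hw => by
        obtain ⟨a, ha⟩ := hno g hg w
        rw [ha]
        exact Submodule.smul_mem _ _ hw) with h | h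
    · exact hne (by simpa using h)
    · have h1 := congrArg (fun U : Submodule F (ι → F) => Module.finrank F U) h
      rw [finrank_span_singleton hne, finrank_top, Module.finrank_pi] at h1
      omega
  set xi : Matrix ι ι F := ((x⁻¹ : GL ι F) : Matrix ι ι F) with hxi
  let L : (ι → F) →ₗ[F] (Fin 3 → F) :=
    { toFun := fun φ => ![φ ⬝ᵥ v, φ ⬝ᵥ ((x : Matrix ι ι F) *ᵥ v), φ ⬝ᵥ (xi *ᵥ v)]
      map_add' := fun a b => by ext i; fin_cases i <;> simp [add_dotProduct]
      map_smul' := fun a b => by ext i; fin_cases i <;> simp [smul_dotProduct] }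
  obtain ⟨φ, hφ, hφ0⟩ := Submodule.exists_mem_ne_zero_of_ne_bot
    (LinearMap.ker_ne_bot_of_finrank_lt (f := L) (by simp [Module.finrank_fin_fun]; omega))
  rw [LinearMap.mem_ker] at hφ
  have h1 : φ ⬝ᵥ v = 0 := congrFun hφ 0
  have h2 : φ ⬝ᵥ ((x : Matrix ι ι F) *ᵥ v) = 0 := congrFun hφ 1
  have h3 : φ ⬝ᵥ (xi *ᵥ v) = 0 := congrFun hφ 2
  set t := transv v φ with ht
  set s := x * t⁻¹ * x⁻¹ with hs
  have hn : (-φ) ⬝ᵥ v = 0 := by rw [neg_dotProduct, h1, neg_zero]
  have hs' : s = transv ((x : Matrix ι ι F) *ᵥ v) ((-φ) ᵥ* xi) := by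
    rw [hs, ht, transv_inv h1, conj_transv x hn]
  have hd : ((-φ) ᵥ* xi) ⬝ᵥ ((x : Matrix ι ι F) *ᵥ v) = 0 := by
    rw [← dotProduct_mulVec, hxi, inv_mulVec_cancel, hn]
  have hd' : ((-φ) ᵥ* xi) ⬝ᵥ v = 0 := by rw [← dotProduct_mulVec, neg_dotProduct, h3, neg_zero]
  have hcomm : Commute t s := gl_ext fun w => by
    rw [hs', ht]
    simp only [CfsgLib.Transvec.mul_mulVec, transv_mulVec h1, transv_mulVec hd, dotProduct_add, dotProduct_smul, h2,
      hd', smul_zero, add_zero]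
    abel
  have hzR : t * x * t⁻¹ * x⁻¹ ∈ R :=
    R.mul_mem ((Subgroup.mem_normalizer_iff.mp (hle (transv_mem_specialLinear v φ)) x).mp hx) (R.inv_mem hx)
  haveI : Fact p.Prime := ⟨hp⟩
  have hpw : ∀ (u ψ : ι → F), ψ ⬝ᵥ u = 0 → (transv u ψ) ^ p = 1 := fun u ψ h => by
    have hk : ∀ k : ℕ, (transv u ψ) ^ k = transv u ((k : F) • ψ) := by
      intro k
      induction k with
      | zero => simp [transv_zero]
      | succ k ih =>
        rw [pow_succ, ih, transv_mul (by rw [smul_dotProduct, h, smul_zero]) h, Nat.cast_succ, add_smul, one_smul]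
    rw [hk, CharP.cast_eq_zero, zero_smul, transv_zero]
  have hzp : (t * s) ^ p = 1 := by
    rw [hcomm.mul_pow, hs', ht, hpw _ _ h1, hpw _ _ hd, one_mul]
  have hzts : t * x * t⁻¹ * x⁻¹ = t * s := by rw [hs]; group
  obtain ⟨k, hk⟩ := hpg ⟨_, hzR⟩
  have hzk : (t * s) ^ r ^ k = 1 := by rw [← hzts]; exact congrArg Subtype.val hk
  have hz1 : t * s = 1 := by
    rw [← orderOf_eq_one_iff]
    exact Nat.eq_one_of_dvd_coprimes (((Nat.coprime_primes hp hr).mpr hrp.symm).pow_right k)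
      (orderOf_dvd_of_pow_eq_one hzp) (orderOf_dvd_of_pow_eq_one hzk)
  have htx : t * x = x * t := by
    rw [← hzts, mul_inv_eq_one, mul_inv_eq_iff_eq_mul] at hz1
    exact hz1
  obtain ⟨w, hw⟩ : ∃ w, φ ⬝ᵥ w = 1 := by
    obtain ⟨i, hi⟩ := Function.ne_iff.mp hφ0
    exact ⟨Pi.single i (φ i)⁻¹, by rw [dotProduct_single, mul_inv_cancel₀ hi]⟩
  have h := congrArg (fun g : GL ι F => (g : Matrix ι ι F) *ᵥ w) htx
  simp only [CfsgLib.Transvec.mul_mulVec, ht, transv_mulVec h1, hw, one_smul, mulVec_add, add_right_inj] at h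
  exact hv _ h.symm

end CfsgLib.Techniques.AschSL
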