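/-
Over small fields some decomposition and tensor stabilisers lie in other members.
-/
import Cfsg.Agent.Lib.Techniques.AschPrime.Mono
import Cfsg.Agent.Lib.Classical22.Asch.Members

set_option autoImplicit false

namespace CfsgLib.Techniques.AschSL

open Matrix CfsgLib.Transvec CfsgLib.Techniques.AschPrime
open scoped MatrixGroups Kronecker

variable {ι : Type} [Fintype ι] [DecidableEq ι] {F : Type*} [Field F] [Fintype F]

/-- With at most four elements in the field, monomial groups fix a vector up to scalars or a diagonal form. -/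
theorem monomial_small (h2 : 2 ≤ Fintype.card ι) {t : ℕ} (ht : Fintype.card ι = t)
    {D : Fin t → Submodule F (ι → F)} (hD : Cfsg.Geo.IsMDecomposition 1 D) {H : Subgroup (GL ι F)}
    (hH : H ≤ Cfsg.Geo.decompositionStabilizer D) (h4 : Fintype.card F ≤ 4) :
    (∃ W : Submodule F (ι → F), W ≠ ⊥ ∧ W ≠ ⊤ ∧ H ≤ Cfsg.Geo.subspaceStabilizer W) ∨
    (Odd (Fintype.card F) ∧ ∃ Q : (ι → F) → F, Cfsg.Geo.IsNondegenerateQuadraticForm Q ∧
      H ≤ Cfsg.Geo.quadSimilarityGroup Q) ∨
    (∃ (σ : F ≃+* F) (f : (ι → F) → (ι → F) → F), Cfsg.Geo.IsUnitaryForm σ f ∧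
      H ≤ Cfsg.Geo.similarityGroup f) := by
  classical
  haveI : Nonempty ι := Fintype.card_pos_iff.mp (by omega)
  obtain ⟨B, e, hB⟩ := exists_coords ht hD
  have hmono : ∀ s ∈ H, MonoB B (fun a => a ≠ 0) s := fun s hs => monoB_of_stab hD hB (hH hs)
  have hpow : ∀ a : F, a ≠ 0 → a ^ (Fintype.card F - 1) = 1 := fun a ha => FiniteField.pow_card_sub_one_eq_one a ha
  have h1 : 1 < Fintype.card F := Fintype.one_lt_card
  rcases (show Fintype.card F = 2 ∨ Fintype.card F = 3 ∨ Fintype.card F = 4 by omega) with hq | hq | hq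
  · left
    set u : ι → F := ((B⁻¹ : GL ι F) : Matrix ι ι F) *ᵥ (fun _ => 1) with hu
    have hu0 : u ≠ 0 := CfsgLib.Transvec.mulVec_ne_zero _ fun h => one_ne_zero (congrFun h (Classical.arbitrary ι))
    refine ⟨Submodule.span F {u}, by simpa using hu0, fun h => ?_, fun h hh => mem_subspaceStabilizer_of_maps ?_⟩
    · have h2' := congrArg (fun U : Submodule F (ι → F) => Module.finrank F U) h
      rw [finrank_span_singleton hu0, finrank_top, Module.finrank_pi] at h2'
      omega
    intro w hw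
    obtain ⟨a, rfl⟩ := Submodule.mem_span_singleton.mp hw
    rw [mulVec_smul]
    refine Submodule.smul_mem _ _ ?_
    obtain ⟨π, c, hc, hM⟩ := hmono h hh
    have hfix : (h : Matrix ι ι F) *ᵥ u = u := by
      apply CfsgLib.Transvec.mulVec_injective B
      simp only
      rw [hu, mulVec_mulVec, mulVec_mulVec, hM, mulVec_inv_cancel]
      funext i
      simp only [mulVec, dotProduct, mul_one]
      rw [Finset.sum_eq_single (π.symm i) (fun k _ hk => if_neg fun h => hk (by rw [h, Equiv.symm_apply_apply]))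
        (by simp), if_pos (Equiv.apply_symm_apply π i).symm]
      have := hpow _ (hc (π.symm i))
      rwa [hq, pow_one] at this
    rw [hfix]
    exact Submodule.mem_span_singleton_self u
  · have h20 : (2 : F) ≠ 0 := by
      intro h
      have h2' : ringChar F = 2 := CharP.ringChar_of_prime_eq_zero Nat.prime_two (by exact_mod_cast h)
      have := FiniteField.even_card_of_char_two h2'
      rw [hq] at this
      omega
    refine Or.inr (Or.inl ⟨by rw [hq]; decide, _, diagForm_polar_quad B h20, fun h hh => ⟨1, fun v => ?_⟩⟩)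
    rw [Units.val_one, one_mul]
    exact (hmono h hh).isometry (fun a ha => by
      have := hpow a ha
      rw [hq] at this
      simpa [sq] using this) v v
  · have hsq : Fintype.card F = 2 ^ 2 := by rw [hq]; rfl
    obtain ⟨p, _⟩ := CharP.exists F
    obtain ⟨k, hp, hk⟩ := FiniteField.card F p
    have hp2 : p = 2 := by
      have h4' : p ∣ 2 ^ 2 := by rw [← hsq, hk]; exact dvd_pow_self p k.ne_zero
      exact (Nat.prime_dvd_prime_iff_eq hp Nat.prime_two).mp (hp.dvd_of_dvd_pow h4')
    subst hp2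
    haveI : Fact (Nat.Prime 2) := ⟨Nat.prime_two⟩
    let τ : F ≃+* F := frobeniusEquiv F 2
    have hτ : ∀ a, τ a = a ^ 2 := fun a => rfl
    have hinv : ∀ a, τ (τ a) = a := fun a => by
      rw [hτ, hτ, ← pow_mul]
      have := FiniteField.pow_card a
      rwa [hq] at this
    have hne : τ ≠ RingEquiv.refl F := by
      intro h
      obtain ⟨a, ha⟩ : ∃ a : F, a ∉ ({0, 1} : Finset F) := by
        by_contra hno
        push Not at hno
        have h1 := Finset.card_le_card (s := Finset.univ) (fun a _ => hno a)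
        rw [Finset.card_univ, hq] at h1
        exact absurd (h1.trans Finset.card_le_two) (by norm_num)
      simp only [Finset.mem_insert, Finset.mem_singleton, not_or] at ha
      have h1 : a ^ 2 = a := by rw [← hτ, h]; rfl
      exact ha.2 (mul_left_cancel₀ ha.1 (by rw [← sq, h1, mul_one]))
    refine Or.inr (Or.inr ⟨τ, _, diagForm_isUnitary B hne hinv, fun h hh => ⟨1, fun u v => ?_⟩⟩)
    rw [Units.val_one, one_mul]
    exact (hmono h hh).isometry (fun a ha => by
      have := hpow a ha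
      rw [hq] at this
      rw [hτ, ← pow_succ']
      exact this) u v

/-- A block monomial matrix with two-dimensional blocks. -/
def blockMono {t : ℕ} (π : Equiv.Perm (Fin t)) (G : Fin t → Matrix (Fin 2) (Fin 2) F) :
    Matrix (Fin t × Fin 2) (Fin t × Fin 2) F :=
  Matrix.of fun x y => if x.1 = π y.1 then G y.1 x.2 y.2 else 0

/-- The sum of the determinant forms of the blocks. -/
def blockJ (t : ℕ) : Matrix (Fin t × Fin 2) (Fin t × Fin 2) F :=
  Matrix.of fun x y => if x.1 = y.1 then (!![0, 1; -1, 0] : Matrix (Fin 2) (Fin 2) F) x.2 y.2 else 0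

omit [Fintype F] in
theorem blockMono_det {t : ℕ} (π : Equiv.Perm (Fin t)) (G : Fin t → Matrix (Fin 2) (Fin 2) F) :
    (blockMono π G).det = ∏ k, (G k).det := by
  classical
  have hM : blockMono π G = ((Matrix.blockDiagonal G).submatrix (Equiv.prodComm _ _) (Equiv.prodComm _ _)).submatrix
      (π.symm.prodCongr (Equiv.refl (Fin 2))) id := by
    ext ⟨k', i⟩ ⟨k, j⟩
    simp only [blockMono, Matrix.of_apply, Matrix.submatrix_apply, Matrix.blockDiagonal_apply, Equiv.prodCongr_apply,
      Equiv.prodComm_apply, Prod.map, Prod.swap, id, Equiv.refl_apply]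
    by_cases h : k' = π k
    · subst h; simp
    · rw [if_neg h, if_neg fun h' => h (by rw [← h', Equiv.apply_symm_apply])]
  rw [hM, Matrix.det_permute, Matrix.det_submatrix_equiv_self, Matrix.det_blockDiagonal]
  have hsign : Equiv.Perm.sign ((π.symm).prodCongr (Equiv.refl (Fin 2))) = 1 := by
    have h : (π.symm).prodCongr (Equiv.refl (Fin 2)) =
        ((Equiv.prodComm (Fin t) (Fin 2)).symm.permCongr) ((Equiv.refl (Fin 2)).prodCongr π.symm) := by
      ext ⟨a, b⟩ <;> rfl
    rw [h, Equiv.Perm.sign_permCongr]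
    have h' : (Equiv.refl (Fin 2)).prodCongr π.symm =
        Equiv.prodCongrRight (fun _ : Fin 2 => π.symm) := rfl
    rw [h', Equiv.Perm.sign_prodCongrRight, Fin.prod_univ_two]
    exact Int.units_mul_self _
  rw [hsign]
  simp

omit [Fintype F] in
theorem blockMono_transpose_mul {t : ℕ} (π : Equiv.Perm (Fin t)) (G : Fin t → Matrix (Fin 2) (Fin 2) F) {c : F}
    (hc : ∀ k, (G k).det = c) : (blockMono π G)ᵀ * blockJ t * blockMono π G = c • blockJ t := by
  classical
  have hJ : ∀ k, (G k)ᵀ * !![(0 : F), 1; -1, 0] * G k = c • !![(0 : F), 1; -1, 0] := fun k => by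
    rw [← hc k, Matrix.det_fin_two]
    ext a b
    fin_cases a <;> fin_cases b <;>
      simp [Matrix.mul_apply, Fin.sum_univ_two] <;> ring
  ext ⟨k, i⟩ ⟨l, j⟩
  simp only [Matrix.smul_apply, blockJ, Matrix.of_apply, Matrix.mul_apply, Matrix.transpose_apply, blockMono,
    Fintype.sum_prod_type, ite_mul, zero_mul, mul_ite, mul_zero, smul_eq_mul]
  by_cases hkl : k = l
  · subst hkl
    have h := congrFun (congrFun (hJ k) i) j
    simp only [Matrix.mul_apply, Matrix.transpose_apply, Matrix.smul_apply, smul_eq_mul, Matrix.of_apply] at h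
    simp only [Finset.sum_ite_eq', Finset.mem_univ, if_true]
    rw [← h]
    rw [Finset.sum_eq_single (π k) (fun x _ hx => by simp [hx]) (by simp)]
    simp
  · rw [if_neg hkl]
    refine Finset.sum_eq_zero fun x _ => Finset.sum_eq_zero fun y _ => ?_
    split_ifs with h1
    · subst h1
      rw [Finset.sum_eq_zero (fun a _ => Finset.sum_eq_zero fun b _ => ?_), zero_mul]
      split_ifs with h2 h3
      · exact absurd (π.injective (h3.symm.trans h2)) hkl
      all_goals rfl
    · rfl

/-- Adapted coordinates for a decomposition into planes. -/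
theorem exists_block_coords {t : ℕ} {D : Fin t → Submodule F (ι → F)} (hD : Cfsg.Geo.IsMDecomposition 2 D) :
    ∃ (P : GL ι F) (e : ι ≃ Fin t × Fin 2), ∀ g ∈ Cfsg.Geo.decompositionStabilizer D,
      ∃ (π : Equiv.Perm (Fin t)) (G : Fin t → Matrix (Fin 2) (Fin 2) F),
        CfsgLib.Classical22.Asch.toCoord e P (g : Matrix ι ι F) = blockMono π G := by
  classical
  have hint : DirectSum.IsInternal D :=
    DirectSum.isInternal_submodule_of_iSupIndep_of_iSup_eq_top hD.indep hD.iSup_eq_top
  let bk : ∀ k, Module.Basis (Fin 2) F (D k) := fun k => Module.finBasisOfFinrankEq F (D k) (hD.finrank_eq k)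
  let b0 : Module.Basis (Σ _ : Fin t, Fin 2) F (ι → F) := hint.collectedBasis bk
  let b : Module.Basis (Fin t × Fin 2) F (ι → F) := b0.reindex (Equiv.sigmaEquivProd _ _)
  have hb : ∀ x, b x = (bk x.1 x.2 : ι → F) := fun x => by simp [b, b0]; rfl
  let e : ι ≃ Fin t × Fin 2 := Fintype.equivOfCardEq (by
    rw [← Module.finrank_eq_card_basis b, Module.finrank_fintype_fun_eq_card])
  let X : Matrix ι ι F := Matrix.of fun a i => b (e i) a
  have hX : ∀ i, X *ᵥ Pi.single i 1 = b (e i) := fun i => by funext a; simp [X]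
  have hXdet : IsUnit X.det := by
    rw [← Matrix.isUnit_iff_isUnit_det, ← Matrix.linearIndependent_cols_iff_isUnit]
    exact b.linearIndependent.comp e e.injective
  refine ⟨Matrix.GeneralLinearGroup.mk'' X hXdet, e, fun g hg => ?_⟩
  obtain ⟨π, hπ⟩ := hg
  have hcol : ∀ k j, ∃ a : Fin 2 → F, (g : Matrix ι ι F) *ᵥ b (k, j) = ∑ i, a i • b (π k, i) := by
    intro k j
    have h1 : (g : Matrix ι ι F) *ᵥ b (k, j) ∈ D (π k) := by
      rw [← hπ k, hb]; exact ⟨_, (bk k j).2, Matrix.toLin'_apply _ _⟩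
    refine ⟨fun i => (bk (π k)).repr ⟨_, h1⟩ i, ?_⟩
    have h2 := congrArg Subtype.val ((bk (π k)).sum_repr ⟨_, h1⟩)
    rw [AddSubmonoidClass.coe_finsetSum] at h2
    exact h2.symm.trans (Finset.sum_congr rfl fun i _ => (congrArg (_ • ·) (hb (π k, i)).symm))
  choose a ha using hcol
  refine ⟨π, fun k => Matrix.of fun i j => a k j i, CfsgLib.Classical22.Asch.toCoord_eq_iff.mpr ?_⟩
  refine Matrix.ext_of_mulVec_single fun i => ?_
  rw [← mulVec_mulVec, ← mulVec_mulVec]
  change (g : Matrix ι ι F) *ᵥ (X *ᵥ Pi.single i 1) = X *ᵥ _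
  rw [hX, show b (e i) = b ((e i).1, (e i).2) from rfl, ha]
  have hcolv : (blockMono π fun k => Matrix.of fun i j => a k j i).submatrix e e *ᵥ Pi.single i 1 =
      ∑ l, a (e i).1 (e i).2 l • Pi.single (e.symm (π (e i).1, l)) 1 := by
    funext r
    simp only [Matrix.mulVec_single_one, Matrix.col_apply, Matrix.submatrix_apply, blockMono, Matrix.of_apply,
      Finset.sum_apply, Pi.smul_apply, Pi.single_apply, smul_eq_mul, mul_ite, mul_one, mul_zero, Equiv.eq_symm_apply]
    by_cases h : (e r).1 = π (e i).1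
    · rw [if_pos h, Finset.sum_eq_single (e r).2 (fun l _ hl => if_neg fun h' => hl (by rw [h'])) (by simp),
        if_pos (show e r = (π (e i).1, (e r).2) from Prod.ext h rfl)]
    · rw [if_neg h]
      exact (Finset.sum_eq_zero fun l _ => if_neg fun h' => h (by rw [h'])).symm
  rw [hcolv, mulVec_sum]
  simp only [mulVec_smul, hX, Equiv.apply_symm_apply]

/-- Over tiny fields a group permuting planes fixes a symplectic form up to scalars. -/
theorem planes_small {t : ℕ} {D : Fin t → Submodule F (ι → F)} (hD : Cfsg.Geo.IsMDecomposition 2 D)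
    {H : Subgroup (GL ι F)} (hdet : H ≤ Cfsg.Geo.specialLinear ι F) (hH : H ≤ Cfsg.Geo.decompositionStabilizer D)
    (hq : Fintype.card F = 2 ∨ (t = 2 ∧ Fintype.card F = 3)) :
    ∃ f : (ι → F) → (ι → F) → F, Cfsg.Geo.IsSymplecticForm f ∧ H ≤ Cfsg.Geo.similarityGroup f := by
  classical
  obtain ⟨P, e, hP⟩ := exists_block_coords hD
  set Pi' : Matrix ι ι F := ((P⁻¹ : GL ι F) : Matrix ι ι F) with hPi
  set J : Matrix ι ι F := (blockJ t).submatrix e e with hJ
  have hJJ : J * J = -1 := by
    rw [hJ, Matrix.submatrix_mul_equiv]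
    have : blockJ (F := F) t * blockJ t = -1 := by
      ext ⟨k, i⟩ ⟨l, j⟩
      simp only [blockJ, Matrix.mul_apply, Fintype.sum_prod_type, Matrix.of_apply, ite_mul, zero_mul]
      rw [Finset.sum_eq_single k (fun x _ hx => by simp [hx.symm]) (by simp)]
      by_cases h : k = l
      · subst h
        fin_cases i <;> fin_cases j <;> simp
      · simp [h]
    rw [this]
    ext a b
    simp [Matrix.one_apply]
  set Gm : Matrix ι ι F := Pi'ᵀ * J * Pi' with hG
  have hJd : ∀ x y, blockJ (F := F) t x y = -(blockJ t y x) ∧ blockJ (F := F) t x x = 0 := by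
    rintro ⟨k, i⟩ ⟨l, j⟩
    simp only [blockJ, Matrix.of_apply]
    constructor
    · by_cases h : k = l
      · subst h
        fin_cases i <;> fin_cases j <;> simp
      · simp [h, Ne.symm h]
    · fin_cases i <;> simp
  have hb : Cfsg.Geo.IsBilinearForm fun u v : ι → F => (Pi' *ᵥ u) ⬝ᵥ (J *ᵥ (Pi' *ᵥ v)) :=
    ⟨fun x y v => by rw [mulVec_add, add_dotProduct],
     fun c x v => by rw [mulVec_smul, smul_dotProduct, smul_eq_mul],
     fun v x y => by rw [mulVec_add, mulVec_add, dotProduct_add],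
     fun c v x => by rw [mulVec_smul, mulVec_smul, dotProduct_smul, smul_eq_mul]⟩
  have halt : ∀ x : ι → F, x ⬝ᵥ (J *ᵥ x) = 0 := by
    intro x
    simp only [dotProduct, mulVec, Finset.mul_sum]
    rw [← Fintype.sum_prod_type']
    refine Finset.sum_involution (fun p _ => p.swap) (fun p _ => ?_) (fun p _ hne h => ?_) (fun p _ => Finset.mem_univ _)
      (fun p _ => Prod.swap_swap p)
    · simp only [hJ, Matrix.submatrix_apply, Prod.fst_swap, Prod.snd_swap]
      rw [(hJd (e p.1) (e p.2)).1]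
      ring
    · apply hne
      have h12 : p.2 = p.1 := congrArg Prod.fst h
      simp only [hJ, Matrix.submatrix_apply, h12, (hJd (e p.1) (e p.1)).2]
      ring
  refine ⟨fun u v => (Pi' *ᵥ u) ⬝ᵥ (J *ᵥ (Pi' *ᵥ v)), ⟨hb, fun v w => ?_, fun v => halt _, fun v hv => ?_⟩,
    fun g hg => ?_⟩
  · have h := halt (Pi' *ᵥ v + Pi' *ᵥ w)
    simp only [mulVec_add, dotProduct_add, add_dotProduct, halt, zero_add, add_zero] at h
    exact eq_neg_of_add_eq_zero_right h
  · have hw : Pi' *ᵥ v ≠ 0 := CfsgLib.Transvec.mulVec_ne_zero P⁻¹ hv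
    have hJw : J *ᵥ (Pi' *ᵥ v) ≠ 0 := fun h => hw (by
      have := congrArg (J *ᵥ ·) h
      simpa [mulVec_mulVec, ← Matrix.mul_assoc, hJJ, neg_mulVec] using this)
    obtain ⟨k, hk⟩ := Function.ne_iff.mp hJw
    have hx : (Pi' *ᵥ ((P : Matrix ι ι F) *ᵥ Pi.single k 1)) ⬝ᵥ (J *ᵥ (Pi' *ᵥ v)) ≠ 0 := by
      rw [hPi, CfsgLib.Transvec.inv_mulVec_cancel, single_one_dotProduct]; exact hk
    refine ⟨⟨_, hx⟩, ⟨(P : Matrix ι ι F) *ᵥ Pi.single k 1, fun h => hx ?_⟩⟩
    have h2 := halt (Pi' *ᵥ v + Pi' *ᵥ ((P : Matrix ι ι F) *ᵥ Pi.single k 1))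
    simp only [mulVec_add, dotProduct_add, add_dotProduct, halt, zero_add, add_zero] at h2
    linear_combination h2 - h
  obtain ⟨π, G, hgc⟩ := hP g (hH hg)
  have hdetg : (g : Matrix ι ι F).det = 1 := (mem_specialLinear_iff g).mp (hdet hg)
  have hprod : ∏ k, (G k).det = 1 := by
    rw [← blockMono_det π G, ← hgc, CfsgLib.Classical22.Asch.toCoord, Matrix.det_submatrix_equiv_self, det_mul,
      det_mul, hdetg, mul_one, ← det_mul, ← Units.val_mul, inv_mul_cancel, Units.val_one, det_one]
  obtain ⟨c, hc⟩ : ∃ c : Fˣ, ∀ k, (G k).det = c := by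
    have hne : ∀ k, (G k).det ≠ 0 := fun k h0 => one_ne_zero
      (hprod.symm.trans (Finset.prod_eq_zero (Finset.mem_univ k) h0))
    rcases hq with hq | ⟨rfl, hq⟩
    · refine ⟨1, fun k => ?_⟩
      have h := FiniteField.pow_card_sub_one_eq_one _ (hne k)
      rwa [hq, pow_one] at h
    · refine ⟨Units.mk0 _ (hne 0), fun k => ?_⟩
      have h := FiniteField.pow_card_sub_one_eq_one _ (hne 1)
      rw [hq] at h
      change (G 1).det ^ 2 = 1 at h
      rw [Fin.prod_univ_two] at hprod
      fin_cases k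
      · rfl
      · change (G 1).det = (G 0).det
        linear_combination (G 0).det * h - (G 1).det * hprod
  refine ⟨c, fun u v => ?_⟩
  have hmul : Pi' * (g : Matrix ι ι F) = (blockMono π G).submatrix e e * Pi' := by
    have h := CfsgLib.Classical22.Asch.toCoord_eq_iff.mp hgc
    have h2 := congrArg (fun Y => Pi' * Y * Pi') h
    simp only [Matrix.mul_assoc] at h2
    rw [← Matrix.mul_assoc Pi' (P : Matrix ι ι F), hPi, Units.inv_mul, Matrix.one_mul, Units.mul_inv,
      Matrix.mul_one] at h2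
    exact h2
  set M : Matrix ι ι F := (blockMono π G).submatrix e e with hM
  have hMJ : Mᵀ * J * M = (c : F) • J := by
    rw [hM, hJ, Matrix.transpose_submatrix, Matrix.submatrix_mul_equiv, Matrix.submatrix_mul_equiv,
      blockMono_transpose_mul π G hc]
    rfl
  simp only [mulVec_mulVec]
  rw [hmul, ← mulVec_mulVec u, dotProduct_comm, dotProduct_mulVec, ← mulVec_transpose, mulVec_mulVec, dotProduct_comm]
  rw [show Mᵀ * (J * (M * Pi')) = (Mᵀ * J * M) * Pi' by simp only [Matrix.mul_assoc], hMJ, Matrix.smul_mul,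
    smul_mulVec, dotProduct_smul, smul_eq_mul]

/-- Over the field of two elements a tensor product with a two-dimensional factor normalises a quadratic field. -/
theorem tensor_two_small (hq : Fintype.card F = 2) {b : ℕ} (hb : 0 < b) (e : ι ≃ Fin 2 × Fin b) (P : GL ι F) :
    ∃ K : Subalgebra F (Matrix ι ι F), Cfsg.Geo.IsFieldSubalgebra 2 K ∧
      Cfsg.Geo.tensorProductSubgroup 2 b e P ≤ Cfsg.Geo.subalgebraNormalizer K := by
  classical
  haveI : Nonempty ι := ⟨e.symm (0, ⟨0, hb⟩)⟩
  have hval : ∀ x : F, x = 0 ∨ x = 1 := by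
    intro x
    by_contra h
    push Not at h
    have h1 : ({0, 1, x} : Finset F).card ≤ 2 := hq ▸ Finset.card_le_univ _
    rw [Finset.card_insert_of_notMem (by simp [Ne.symm h.1]), Finset.card_pair (Ne.symm h.2)] at h1
    omega
  have h2 : (2 : F) = 0 := by
    rcases hval 2 with h | h
    · exact h
    · exact absurd (show (1 : F) = 0 by linear_combination h) one_ne_zero
  set ω : Matrix (Fin 2) (Fin 2) F := !![0, 1; 1, 1] with hω
  set Z : Matrix ι ι F := Matrix.reindex e.symm e.symm (ω ⊗ₖ (1 : Matrix (Fin b) (Fin b) F)) with hZ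
  set W : Matrix ι ι F := (P : Matrix ι ι F) * Z * ((P⁻¹ : GL ι F) : Matrix ι ι F) with hW
  have hWW : W * W = W + 1 := by
    have hωω : ω * ω = ω + 1 := by
      rw [hω]; ext i j
      fin_cases i <;> fin_cases j <;> simp [Matrix.mul_apply, Fin.sum_univ_two]
    have hZZ : Z * Z = Z + 1 := by
      rw [hZ]
      simp only [Matrix.reindex_apply, Equiv.symm_symm]
      rw [Matrix.submatrix_mul_equiv, ← Matrix.mul_kronecker_mul, hωω, mul_one, Matrix.add_kronecker,
        Matrix.one_kronecker_one]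
      ext i j
      simp [Matrix.one_apply]
    rw [hW, show (P : Matrix ι ι F) * Z * ((P⁻¹ : GL ι F) : Matrix ι ι F) * ((P : Matrix ι ι F) * Z *
      ((P⁻¹ : GL ι F) : Matrix ι ι F)) = (P : Matrix ι ι F) * (Z * Z) * ((P⁻¹ : GL ι F) : Matrix ι ι F) by
        simp only [Matrix.mul_assoc, Units.inv_mul_cancel_left], hZZ, Matrix.mul_add, Matrix.add_mul, Matrix.mul_one,
      Units.mul_inv]
  let K : Subalgebra F (Matrix ι ι F) :=
    { carrier := {X | ∃ a c : F, X = a • 1 + c • W}
      mul_mem' := by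
        rintro _ _ ⟨a, c, rfl⟩ ⟨a', c', rfl⟩
        refine ⟨a * a' + c * c', a * c' + c * a' + c * c', ?_⟩
        simp only [Matrix.mul_add, Matrix.add_mul, Matrix.smul_mul, Matrix.mul_smul, Matrix.one_mul, Matrix.mul_one,
          hWW, smul_add, add_smul, smul_smul]
        module
      add_mem' := by
        rintro _ _ ⟨a, c, rfl⟩ ⟨a', c', rfl⟩
        exact ⟨a + a', c + c', by simp only [add_smul]; abel⟩
      algebraMap_mem' := fun r => ⟨r, 0, by rw [zero_smul, add_zero, Algebra.algebraMap_eq_smul_one]⟩ }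
  have hmem : ∀ {X : Matrix ι ι F}, X ∈ K ↔ ∃ a c : F, X = a • 1 + c • W := Iff.rfl
  have hWs : ∀ a : F, W ≠ a • 1 := by
    intro a h
    have hZ' : Z = a • 1 := by
      have h' := congrArg (fun X => ((P⁻¹ : GL ι F) : Matrix ι ι F) * X * (P : Matrix ι ι F)) h
      simpa [hW, Matrix.mul_assoc] using h'
    have h01 := congrFun (congrFun hZ' (e.symm (0, ⟨0, hb⟩))) (e.symm (1, ⟨0, hb⟩))
    simp [hZ, hω] at h01
  refine ⟨K, ⟨?_, ?_, ?_⟩, ?_⟩
  · rintro _ ⟨a, c, rfl⟩ _ ⟨a', c', rfl⟩
    simp only [Matrix.mul_add, Matrix.add_mul, Matrix.smul_mul, Matrix.mul_smul, Matrix.one_mul, Matrix.mul_one]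
    module
  · rintro X ⟨a, c, hX⟩ hX0
    rcases hval c with rfl | rfl
    · rcases hval a with rfl | rfl
      · exact absurd (by simpa using hX) hX0
      · exact ⟨1, K.one_mem, by rw [hX]; simp⟩
    · rcases hval a with rfl | rfl
      · refine ⟨1 + W, hmem.mpr ⟨1, 1, by simp⟩, ?_⟩
        rw [hX, zero_smul, zero_add, one_smul, Matrix.mul_add, mul_one, hWW, ← add_assoc, ← two_smul F W, h2,
          zero_smul, zero_add]
      · refine ⟨W, hmem.mpr ⟨0, 1, by simp⟩, ?_⟩
        rw [hX, one_smul, one_smul, Matrix.add_mul, one_mul, hWW, ← add_assoc, ← two_smul F W, h2, zero_smul,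
          zero_add]
  · let bas : Module.Basis (Fin 2) F K :=
      Module.Basis.mk (v := ![⟨1, K.one_mem⟩, ⟨W, hmem.mpr ⟨0, 1, by simp⟩⟩]) (by
        rw [Fintype.linearIndependent_iff]
        intro g hg
        rw [Fin.sum_univ_two] at hg
        have h' := congrArg Subtype.val hg
        simp only [Matrix.cons_val_zero, Matrix.cons_val_one, Subalgebra.coe_add, Subalgebra.coe_smul,
          ZeroMemClass.coe_zero] at h'
        have h1 : g 1 = 0 := by
          by_contra hne
          apply hWs (-(g 0) / g 1)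
          have h'' := congrArg ((g 1)⁻¹ • ·) h'
          simp only [smul_add, smul_smul, inv_mul_cancel₀ hne, one_smul, smul_zero] at h''
          rw [eq_neg_of_add_eq_zero_right h'', ← neg_smul]
          congr 1
          field_simp
        have h0 : g 0 = 0 := by
          rw [h1, zero_smul, add_zero] at h'
          exact (smul_eq_zero.mp h').resolve_right one_ne_zero
        intro i; fin_cases i
        · exact h0
        · exact h1) (by
        rintro ⟨X, hX⟩ -
        obtain ⟨a, c, rfl⟩ := hmem.mp hX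
        rw [Submodule.mem_span_range_iff_exists_fun]
        exact ⟨![a, c], Subtype.ext (by simp [Fin.sum_univ_two])⟩)
    rw [Module.finrank_eq_card_basis bas, Fintype.card_fin]
  intro g hg
  obtain ⟨z, ⟨A, B, hz⟩, hgz⟩ := CfsgLib.Classical22.Asch.exists_toCoord_of_mem hg
  have hconj : ∀ A : GL (Fin 2) F,
      ∃ a c : F, (A : Matrix (Fin 2) (Fin 2) F) * ω * ((A⁻¹ : GL (Fin 2) F) : Matrix (Fin 2) (Fin 2) F) = a • 1 + c • ω := by
    intro A
    set X := (A : Matrix (Fin 2) (Fin 2) F) * ω * ((A⁻¹ : GL (Fin 2) F) : Matrix (Fin 2) (Fin 2) F) with hX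
    have htr : X 0 0 + X 1 1 = 1 := by
      rw [← Matrix.trace_fin_two, hX, Matrix.trace_mul_comm, ← Matrix.mul_assoc, Units.inv_mul, Matrix.one_mul,
        Matrix.trace_fin_two, hω]
      simp
    have hdet : X 0 0 * X 1 1 - X 0 1 * X 1 0 = 1 := by
      rw [← Matrix.det_fin_two, hX, det_mul, det_mul, mul_comm (A : Matrix (Fin 2) (Fin 2) F).det, mul_assoc, ← det_mul,
        ← Units.val_mul, mul_inv_cancel, Units.val_one, det_one, mul_one, hω, Matrix.det_fin_two]
      simp
      linear_combination -h2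
    have h01 : X 0 0 * X 1 1 = 0 := by
      rcases hval (X 0 0) with h | h
      · rw [h, zero_mul]
      · rw [h] at htr ⊢
        rw [show X 1 1 = 0 by linear_combination htr, mul_zero]
    have hyz : X 0 1 * X 1 0 = 1 := by linear_combination h01 - hdet + (X 0 1 * X 1 0 - 1) * 0 - (1 : F) * h2
    have hy : X 0 1 = 1 := (hval _).resolve_left fun h => by rw [h, zero_mul] at hyz; exact zero_ne_one hyz
    have hz' : X 1 0 = 1 := by rw [hy, one_mul] at hyz; exact hyz
    refine ⟨X 0 0, 1, ?_⟩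
    ext i j
    fin_cases i <;> fin_cases j <;> simp [hω, hy, hz']
    linear_combination htr - X 0 0 * h2
  have key : ∀ g : GL ι F, ∀ (A : GL (Fin 2) F) (B : GL (Fin b) F),
      CfsgLib.Classical22.Asch.toCoord e P (g : Matrix ι ι F) =
        (A : Matrix (Fin 2) (Fin 2) F) ⊗ₖ (B : Matrix (Fin b) (Fin b) F) →
      ∀ k ∈ K, (g : Matrix ι ι F) * k * ((g⁻¹ : GL ι F) : Matrix ι ι F) ∈ K := by
    intro g A B hg k hk
    obtain ⟨a, c, rfl⟩ := hmem.mp hk
    obtain ⟨a', c', hA⟩ := hconj A
    have hωA : (A : Matrix (Fin 2) (Fin 2) F) * ω = (a' • 1 + c' • ω) * (A : Matrix (Fin 2) (Fin 2) F) := by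
      rw [← hA, Matrix.mul_assoc _ ((A⁻¹ : GL (Fin 2) F) : Matrix (Fin 2) (Fin 2) F), Units.inv_mul, Matrix.mul_one]
    have hgW : (g : Matrix ι ι F) * W = (a' • 1 + c' • W) * (g : Matrix ι ι F) := by
      set M : Matrix ι ι F :=
        ((A : Matrix (Fin 2) (Fin 2) F) ⊗ₖ (B : Matrix (Fin b) (Fin b) F)).submatrix e e with hM
      have hgP : (g : Matrix ι ι F) = (P : Matrix ι ι F) * M * ((P⁻¹ : GL ι F) : Matrix ι ι F) := by
        rw [← CfsgLib.Classical22.Asch.toCoord_eq_iff.mp hg, Matrix.mul_assoc, Units.mul_inv, Matrix.mul_one]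
      have hMZ : M * Z = (a' • 1 + c' • Z) * M := by
        have hr : (a' • 1 + c' • Z : Matrix ι ι F) =
            (((a' • 1 + c' • ω : Matrix (Fin 2) (Fin 2) F)) ⊗ₖ (1 : Matrix (Fin b) (Fin b) F)).submatrix e e := by
          rw [Matrix.add_kronecker, Matrix.smul_kronecker, Matrix.smul_kronecker, Matrix.one_kronecker_one]
          ext i j
          simp [hZ, Matrix.one_apply]
        rw [hr, hM, hZ, Matrix.reindex_apply, Equiv.symm_symm, Matrix.submatrix_mul_equiv,
          Matrix.submatrix_mul_equiv, ← Matrix.mul_kronecker_mul, ← Matrix.mul_kronecker_mul, hωA, Matrix.mul_one,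
          Matrix.one_mul]
      have hPW : (a' • 1 + c' • W : Matrix ι ι F) =
          (P : Matrix ι ι F) * (a' • 1 + c' • Z) * ((P⁻¹ : GL ι F) : Matrix ι ι F) := by
        rw [hW, Matrix.mul_add, Matrix.add_mul, Matrix.mul_smul, Matrix.mul_smul, Matrix.smul_mul, Matrix.smul_mul,
          Matrix.mul_one, Units.mul_inv]
      rw [hPW, hgP, hW]
      simp only [Matrix.mul_assoc, Units.inv_mul_cancel_left]
      rw [← Matrix.mul_assoc M Z, hMZ, Matrix.mul_assoc]
    refine hmem.mpr ⟨a + c * a', c * c', ?_⟩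
    rw [Matrix.mul_add, Matrix.add_mul, Matrix.mul_smul, Matrix.mul_smul, Matrix.smul_mul, Matrix.smul_mul,
      Matrix.mul_one, Units.mul_inv, hgW, Matrix.mul_assoc, Units.mul_inv, Matrix.mul_one, smul_add, smul_smul,
      smul_smul]
    module
  intro k
  refine ⟨key g A B (hgz.trans hz) k, fun hk => ?_⟩
  obtain ⟨z', ⟨A', B', hz'⟩, hgz'⟩ := CfsgLib.Classical22.Asch.exists_toCoord_of_mem
    ((Cfsg.Geo.tensorProductSubgroup 2 b e P).inv_mem hg)
  have h := key g⁻¹ A' B' (hgz'.trans hz') _ hk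
  simpa [Matrix.mul_assoc] using h

end CfsgLib.Techniques.AschSL
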