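/-
Absolutely irreducible groups of symplectic type have class two, and their degree is a power of the prime.
-/
import Cfsg.Agent.Lib.Techniques.AschGen.ClassTwoBasis
import Cfsg.Agent.Lib.PGroup.Basic

set_option autoImplicit false

namespace CfsgLib.Techniques.AschSL

open Matrix CfsgLib.Techniques.AschPrime CfsgLib.Techniques.AschGen
open scoped MatrixGroups commutatorElement

/-- In a p-group whose exponent equals the order of the centre and whose characteristic abelian subgroups are cyclic,
commutators are central. -/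
theorem commutator_le_center {G : Type*} [Group G] [Finite G] {p : ℕ} [Fact p.Prime] (hG : IsPGroup p G) {k : ℕ}
    (hk : ∀ g : G, g ^ k = 1) (hkc : Nat.card (Subgroup.center G) = k)
    (hab : ∀ A : Subgroup G, A.Characteristic → IsMulCommutative A → IsCyclic A) :
    commutator G ≤ Subgroup.center G := by
  classical
  let A : Subgroup G :=
    { carrier := {a : G | a ∈ commutator G ∧ ∀ g : G, ⁅g, a⁆ ∈ Subgroup.center G}
      one_mem' := ⟨one_mem _, fun g => by rw [commutatorElement_one_right]; exact one_mem _⟩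
      mul_mem' := fun {a b} ha hb => ⟨mul_mem ha.1 hb.1, fun g => by
        have e : (⁅g, a * b⁆ : G) = ⁅g, a⁆ * (a * ⁅g, b⁆ * a⁻¹) := by simp only [commutatorElement_def]; group
        rw [e]
        exact mul_mem (ha.2 g) (Subgroup.Normal.conj_mem inferInstance _ (hb.2 g) a)⟩
      inv_mem' := fun {a} ha => ⟨inv_mem ha.1, fun g => by
        have e : ⁅g, a⁻¹⁆ = a⁻¹ * (⁅g, a⁆)⁻¹ * a⁻¹⁻¹ := by simp only [commutatorElement_def]; group
        rw [e]
        exact Subgroup.Normal.conj_mem inferInstance _ (inv_mem (ha.2 g)) a⁻¹⟩ }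
  have hcomm : ∀ a ∈ A, ∀ b ∈ A, a * b = b * a := by
    intro a ha b hb
    let ψ : G →* Subgroup.center G := MonoidHom.mk' (fun g => ⟨⁅g, a⁆, ha.2 g⟩) fun g h => Subtype.ext (by
      change ⁅g * h, a⁆ = ⁅g, a⁆ * ⁅h, a⁆
      have e : ⁅g * h, a⁆ = g * ⁅h, a⁆ * g⁻¹ * ⁅g, a⁆ := by simp only [commutatorElement_def]; group
      rw [e, Subgroup.mem_center_iff.mp (ha.2 h) g, mul_inv_cancel_right, ← Subgroup.mem_center_iff.mp (ha.2 h)])
    have hker : commutator G ≤ ψ.ker := by
      rw [commutator_def, Subgroup.commutator_le]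
      intro g _ h _
      rw [MonoidHom.mem_ker, map_commutatorElement, commutatorElement_eq_one_iff_mul_comm]
      exact Subtype.ext (Subgroup.mem_center_iff.mp (ψ h).2 _)
    have h1 : ⁅b, a⁆ = 1 := congrArg Subtype.val (MonoidHom.mem_ker.mp (hker hb.1))
    exact (commutatorElement_eq_one_iff_mul_comm.mp h1).symm
  let B : Subgroup G := A ⊔ Subgroup.center G
  have hAchar : A.Characteristic := Subgroup.characteristic_iff_le_comap.mpr fun φ a ha => by
    refine ⟨Subgroup.characteristic_iff_le_comap.mp inferInstance φ ha.1, fun g => ?_⟩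
    have h := Subgroup.characteristic_iff_le_comap.mp (inferInstance : (Subgroup.center G).Characteristic) φ
      (ha.2 (φ.symm g))
    rw [Subgroup.mem_comap, map_commutatorElement] at h
    simpa using h
  have hBchar : B.Characteristic := Subgroup.characteristic_iff_le_comap.mpr fun φ => sup_le
    ((Subgroup.characteristic_iff_le_comap.mp hAchar φ).trans (Subgroup.comap_mono le_sup_left))
    ((Subgroup.characteristic_iff_le_comap.mp inferInstance φ).trans (Subgroup.comap_mono le_sup_right))
  have hBcomm : IsMulCommutative B := by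
    refine ⟨⟨fun x y => Subtype.ext ?_⟩⟩
    obtain ⟨a, ha, c, hc, hx⟩ := Subgroup.mem_sup_of_normal_right.mp x.2
    obtain ⟨b, hb, d, hd, hy⟩ := Subgroup.mem_sup_of_normal_right.mp y.2
    have hcc := Subgroup.mem_center_iff.mp hc
    have hdc := Subgroup.mem_center_iff.mp hd
    change (x : G) * y = y * x
    rw [← hx, ← hy, show a * c * (b * d) = a * (c * b) * d by group, ← hcc b,
      show b * d * (a * c) = b * (d * a) * c by group, ← hdc a, show a * (b * c) * d = a * b * (c * d) by group,
      hcomm a ha b hb, hdc c]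
    group
  haveI := hab B hBchar hBcomm
  obtain ⟨g, hg⟩ := IsCyclic.exists_ofOrder_eq_natCard (α := B)
  have hdvd : Nat.card B ≤ Nat.card (Subgroup.center G) := by
    rw [hkc, ← hg, ← Subgroup.orderOf_coe]
    exact Nat.le_of_dvd (hkc ▸ Nat.card_pos) (orderOf_dvd_of_pow_eq_one (hk _))
  have hBZ : B ≤ Subgroup.center G := (Subgroup.eq_of_le_of_card_ge le_sup_right hdvd).ge
  by_contra hne
  let f := QuotientGroup.mk' (Subgroup.center G)
  haveI hn : ((commutator G).map f).Normal := Subgroup.Normal.map inferInstance f (QuotientGroup.mk'_surjective _)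
  have hne' : (commutator G).map f ≠ ⊥ := fun h => hne (by
    rw [Subgroup.map_eq_bot_iff, QuotientGroup.ker_mk'] at h
    exact h)
  have h1 := CfsgLib.PGroup.inf_center_ne_bot (hG.to_quotient _) ((commutator G).map f) hne'
  obtain ⟨y, ⟨⟨a, ha, rfl⟩, hy⟩, hy1⟩ := (Subgroup.ne_bot_iff_exists_ne_one.mp h1) |> fun ⟨⟨y, hy⟩, h⟩ =>
    (⟨y, hy, fun e => h (Subtype.ext e)⟩ : ∃ y, y ∈ (commutator G).map f ⊓ Subgroup.center _ ∧ y ≠ 1)
  apply hy1
  refine (QuotientGroup.eq_one_iff a).mpr (hBZ (Subgroup.mem_sup_left ⟨ha, fun g => ?_⟩))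
  rw [← QuotientGroup.eq_one_iff]
  change f ⁅g, a⁆ = 1
  rw [map_commutatorElement, commutatorElement_eq_one_iff_mul_comm]
  exact Subgroup.mem_center_iff.mp hy (f g)

theorem sq_left_twist {G : Type*} [Group G] {u v z : G} (hz : ∀ g, z * g = g * z) (h : u * v = z * v * u) :
    u * u * v = z * z * v * (u * u) := by
  rw [mul_assoc u u v, h, show u * (z * v * u) = u * z * (v * u) by group, ← hz u,
    show z * u * (v * u) = z * (u * v) * u by group, h]
  group

theorem sq_right_twist {G : Type*} [Group G] {u v z : G} (hz : ∀ g, z * g = g * z) (h : u * v = z * v * u) :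
    u * (v * v) = z * z * (v * v) * u := by
  rw [← mul_assoc u v v, h, show z * v * u * v = z * v * (u * v) by group, h,
    show z * v * (z * v * u) = z * (v * z) * (v * u) by group, ← hz v]
  group

variable {ι : Type} [Fintype ι] [DecidableEq ι] {F : Type*} [Field F]

/-- The degree of an absolutely irreducible group of symplectic type is a power of the prime. -/
theorem exists_degree_eq_pow [Fintype F] [Nonempty ι] {r : ℕ} {R : Subgroup (GL ι F)}
    (hR : Cfsg.Geo.IsLinearSymplecticTypeData r R) (h3 : 3 ≤ Fintype.card ι) :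
    ∃ m, Fintype.card ι = r ^ m := by
  classical
  haveI : Finite (Matrix ι ι F) := Module.finite_of_finite F
  haveI : Finite (GL ι F) := Finite.of_injective _ Units.val_injective
  obtain ⟨p, e, -, -, hcase⟩ := hR.field
  have hr := hR.symplecticType.prime
  haveI : Fact r.Prime := ⟨hr⟩
  set k := r * Nat.gcd 2 r with hkdef
  have hkc : Nat.card (Subgroup.center R) = k := by
    rcases hcase with ⟨hodd, -, h, -⟩ | ⟨rfl, -, h, -⟩ | ⟨-, -, h, -⟩
    · rw [h, hkdef, (Nat.coprime_two_left.mpr hodd).gcd_eq_one, mul_one]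
    · rw [h, hkdef, Nat.gcd_self]
    · omega
  have hexp : ∀ g : R, g ^ k = 1 := fun g => by
    rw [hkdef, ← hR.symplecticType.exponent_eq]
    exact Monoid.pow_exponent_eq_one g
  have hcc := commutator_le_center hR.symplecticType.pGroup hexp hkc hR.symplecticType.cyclic_of_characteristic
  -- the centre consists of scalars and is the group of k-th roots of unity
  have hcs : ∀ z : Subgroup.center R, ∃ c : Fˣ, ((z : R) : GL ι F) = scal ι c := fun z => by
    obtain ⟨c, hc⟩ := (AbsIrr.mem_scalars (S := R) hR.absIrred fun s hs =>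
      congrArg Subtype.val (Subgroup.mem_center_iff.mp z.2 ⟨s, hs⟩).symm : ((z : R) : GL ι F) ∈ Cfsg.Geo.scalars ι F)
    exact ⟨c, hc.symm⟩
  choose ch hch using hcs
  have hchpow : ∀ z, ch z ^ k = 1 := fun z => scal_inj (ι := ι) (by
    rw [scal_pow, ← hch, ← Subgroup.coe_pow, hexp, show scal ι (1 : Fˣ) = (1 : GL ι F) from map_one _]; rfl)
  haveI : NeZero k := ⟨by rw [← hkc]; exact Nat.card_pos.ne'⟩
  have hchinj : Function.Injective fun z : Subgroup.center R => (⟨ch z, by
      rw [mem_rootsOfUnity]; exact hchpow z⟩ : rootsOfUnity k F) := fun z w h => by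
    have h' : ch z = ch w := congrArg Subtype.val h
    exact Subtype.ext (Subtype.ext (by rw [hch, hch, h']))
  haveI : Fintype (Subgroup.center R) := Fintype.ofFinite _
  have hcardroots : Fintype.card (rootsOfUnity k F) = k := le_antisymm ((Nat.card_eq_fintype_card).symm.le.trans (card_rootsOfUnity F k)) (by
    conv_lhs => rw [← hkc, Nat.card_eq_fintype_card]
    exact Fintype.card_le_of_injective _ hchinj)
  have hsurj : Function.Surjective fun z : Subgroup.center R => (⟨ch z, by
      rw [mem_rootsOfUnity]; exact hchpow z⟩ : rootsOfUnity k F) :=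
    ((Fintype.bijective_iff_injective_and_card _).mpr ⟨hchinj, by
      rw [hcardroots, ← hkc, Nat.card_eq_fintype_card]⟩).2
  have hscal : ∀ c : Fˣ, c ^ k = 1 → scal ι c ∈ R := fun c hc => by
    obtain ⟨z, hz⟩ := hsurj ⟨c, by rw [mem_rootsOfUnity]; exact hc⟩
    have h : ch z = c := congrArg Subtype.val hz
    rw [← h, ← hch]
    exact (z : R).2
  have htwist0 : ∀ x y : R, ∃ c : Fˣ, (y : GL ι F) * x = scal ι c * x * y := fun x y => by
    have hmem : ⁅y, x⁆ ∈ Subgroup.center R := hcc (Subgroup.commutator_mem_commutator trivial trivial)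
    refine ⟨ch ⟨_, hmem⟩, ?_⟩
    have h := hch ⟨_, hmem⟩
    rw [← h]
    simp only [commutatorElement_def, Subgroup.coe_mul, Subgroup.coe_inv]
    group
  have htwist : ∀ x ∈ R, ∀ y ∈ R, ∃ c : Fˣ, c ^ r = 1 ∧ y * x = scal ι c * x * y := by
    intro x hx y hy
    obtain ⟨c, hc⟩ := htwist0 ⟨x, hx⟩ ⟨y, hy⟩
    have hck : c ^ k = 1 := by
      have hmem : ⁅(⟨y, hy⟩ : R), ⟨x, hx⟩⁆ ∈ Subgroup.center R :=
        hcc (Subgroup.commutator_mem_commutator trivial trivial)
      have h := hch ⟨_, hmem⟩
      have hval : ((⁅(⟨y, hy⟩ : R), ⟨x, hx⟩⁆ : R) : GL ι F) = scal ι c := by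
        simp only [commutatorElement_def, Subgroup.coe_mul, Subgroup.coe_inv]; rw [hc]; group
      rw [scal_inj (ι := ι) (hval.symm.trans h)]
      exact hchpow _
    rcases hr.eq_two_or_odd' with rfl | hodd
    swap
    · rw [hkdef, (Nat.coprime_two_left.mpr hodd).gcd_eq_one, mul_one] at hck
      exact ⟨c, hck, hc⟩
    refine ⟨c, ?_, hc⟩
    -- squares are central
    have hexp4 : ∀ g : R, g ^ 4 = 1 := fun g => by simpa [hkdef] using hexp g
    have hsqc : ∀ a b : R, (a * a) * (b * b) = (b * b) * (a * a) := by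
      intro a b
      obtain ⟨d, hd⟩ := htwist0 b a
      have hd4 : d ^ 4 = 1 := by
        have hmem : ⁅a, b⁆ ∈ Subgroup.center R := hcc (Subgroup.commutator_mem_commutator trivial trivial)
        have h := hch ⟨_, hmem⟩
        have hval : ((⁅a, b⁆ : R) : GL ι F) = scal ι d := by
          simp only [commutatorElement_def, Subgroup.coe_mul, Subgroup.coe_inv]; rw [hd]; group
        rw [scal_inj (ι := ι) (hval.symm.trans h)]
        simpa [hkdef] using hchpow ⟨_, hmem⟩
      have hz : ∀ g, scal ι d * g = g * scal ι d := fun g => scalars_comm (scal_mem d) g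
      refine Subtype.ext ?_
      simp only [Subgroup.coe_mul]
      have h1 := sq_left_twist hz hd
      have hz2 : ∀ g, scal ι d * scal ι d * g = g * (scal ι d * scal ι d) := fun g => by
        rw [mul_assoc, hz g, ← mul_assoc, hz g, mul_assoc]
      have h2 := sq_right_twist hz2 h1
      rw [h2, ← scal_mul, ← scal_mul, show d * d * (d * d) = d ^ 4 by simp [pow_succ, mul_assoc], hd4,
        show scal ι (1 : Fˣ) = (1 : GL ι F) from map_one _, one_mul]
    let S : Subgroup R := Subgroup.closure {g | ∃ a : R, g = a * a}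
    have hScomm : IsMulCommutative S := Subgroup.isMulCommutative_closure (by
      rintro _ ⟨a, rfl⟩ _ ⟨b, rfl⟩; exact hsqc a b)
    have hSchar : S.Characteristic := Subgroup.characteristic_iff_le_comap.mpr fun φ => (Subgroup.closure_le _).mpr (by
      rintro _ ⟨a, rfl⟩
      exact Subgroup.subset_closure ⟨φ a, map_mul φ a a⟩)
    have hS2 : ∀ g ∈ S, g * g = 1 := by
      intro g hg
      induction hg using Subgroup.closure_induction with
      | mem g hg => obtain ⟨a, rfl⟩ := hg; rw [mul_assoc, ← mul_assoc a a a]; simpa [pow_succ, mul_assoc] using hexp4 a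
      | one => rw [mul_one]
      | mul u w hu hw ihu ihw =>
        have hcomm : (⟨u, hu⟩ : S) * ⟨w, hw⟩ = ⟨w, hw⟩ * ⟨u, hu⟩ := hScomm.is_comm.comm _ _
        have h' : u * w = w * u := congrArg Subtype.val hcomm
        rw [show u * w * (u * w) = u * (w * u) * w by group, ← h', show u * (u * w) * w = (u * u) * (w * w) by group,
          ihu, ihw, one_mul]
      | inv u _ ihu => rw [← _root_.mul_inv_rev, ihu, inv_one]
    haveI := hR.symplecticType.cyclic_of_characteristic S hSchar hScomm
    obtain ⟨g, hg⟩ := IsCyclic.exists_ofOrder_eq_natCard (α := S)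
    have hS : Nat.card S ≤ 2 := by
      rw [← hg, ← Subgroup.orderOf_coe]
      exact Nat.le_of_dvd two_pos (orderOf_dvd_of_pow_eq_one (by rw [sq]; exact hS2 _ g.2))
    haveI : S.Normal := Subgroup.normal_of_characteristic _
    have hScen : S ≤ Subgroup.center R := by
      intro s hs
      rw [Subgroup.mem_center_iff]
      intro u
      have hconj : u * s * u⁻¹ ∈ S := Subgroup.Normal.conj_mem inferInstance s hs u
      by_cases h1 : s = 1
      · rw [h1, mul_one, one_mul]
      have hpair : ∀ w ∈ S, w = 1 ∨ w = s := by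
        intro w hw
        by_contra hcon
        push Not at hcon
        haveI : Fintype S := Fintype.ofFinite S
        have : ({⟨1, one_mem S⟩, ⟨s, hs⟩, ⟨w, hw⟩} : Finset S).card ≤ 2 :=
          (Finset.card_le_univ _).trans (by rw [← Nat.card_eq_fintype_card]; exact hS)
        rw [Finset.card_insert_of_notMem (by
            simp only [Finset.mem_insert, Finset.mem_singleton, Subtype.mk.injEq]
            exact not_or.mpr ⟨Ne.symm h1, Ne.symm hcon.1⟩),
          Finset.card_pair (fun h => hcon.2 (congrArg Subtype.val h).symm)] at this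
        omega
      rcases hpair _ hconj with h | h
      · exact absurd (mul_left_cancel ((mul_inv_eq_one.mp h).trans (mul_one u).symm)) h1
      · exact mul_inv_eq_iff_eq_mul.mp h
    have hx2 : (⟨x, hx⟩ : R) * ⟨x, hx⟩ ∈ Subgroup.center R := hScen (Subgroup.subset_closure ⟨_, rfl⟩)
    have h := congrArg Subtype.val (Subgroup.mem_center_iff.mp hx2 ⟨y, hy⟩)
    simp only [Subgroup.coe_mul] at h
    have hzc : ∀ g, scal ι c * g = g * scal ι c := fun g => scalars_comm (scal_mem c) g
    have h2 : y * (x * x) = scal ι c * scal ι c * (x * x * y) := by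
      rw [← mul_assoc, hc, show scal ι c * x * y * x = scal ι c * x * (y * x) by group, hc,
        show scal ι c * x * (scal ι c * x * y) = scal ι c * (x * scal ι c) * (x * y) by group, ← hzc]
      group
    rw [h, eq_comm, mul_eq_right, ← scal_mul, ← map_one (Units.map (Matrix.scalar ι : F →+* Matrix ι ι F).toMonoidHom)] at h2
    rw [sq]
    exact scal_inj (ι := ι) h2
  have hroot : ∃ c : Fˣ, orderOf c = r := by
    obtain ⟨⟨z, hz⟩, hz'⟩ := exists_prime_orderOf_dvd_card' (G := Subgroup.center R) r (by rw [hkc]; exact dvd_mul_right r _)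
    refine ⟨ch ⟨z, hz⟩, ?_⟩
    rw [← hz', ← Subgroup.orderOf_coe, ← Subgroup.orderOf_coe, hch]
    exact (orderOf_injective (Units.map (Matrix.scalar ι : F →+* Matrix ι ι F).toMonoidHom)
      (fun a b h => scal_inj (ι := ι) h) _).symm
  have hT : TypeData R R r := ⟨hr, hR.absIrred, fun h hh x hx => R.mul_mem (R.mul_mem hh hx) (R.inv_mem hh),
    fun x hx => congrArg Subtype.val (hexp ⟨x, hx⟩), hscal, htwist, hR.symplecticType, hroot⟩
  obtain ⟨ζ, hζ⟩ : ∃ ζ : F, IsPrimitiveRoot ζ k := by
    obtain ⟨u, hu⟩ := IsCyclic.exists_ofOrder_eq_natCard (α := rootsOfUnity k F)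
    rw [Nat.card_eq_fintype_card, hcardroots] at hu
    refine ⟨((u : Fˣ) : F), IsPrimitiveRoot.coe_units_iff.mpr ?_⟩
    have h := IsPrimitiveRoot.orderOf (u : Fˣ)
    rwa [Subgroup.orderOf_coe, hu] at h
  obtain ⟨-, -, m, hm, -⟩ := typeData_basis hT hζ
  exact ⟨m, hm⟩

end CfsgLib.Techniques.AschSL
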