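/-
Maximal subgroups of the special linear groups in any degree at least four.
-/
import Cfsg.Agent.Lib.Classical22.Asch.LinearCases
import Cfsg.Agent.Lib.Techniques.AschGen.ClassTwo
import Cfsg.Agent.Lib.Techniques.AschSL.Proper
import Cfsg.Agent.Lib.Techniques.AschSL.SymType
import Cfsg.Agent.Lib.Techniques.AschSL.Small
import Cfsg.Agent.Lib.Techniques.AschPrime.SL

set_option autoImplicit false

namespace CfsgLib.Techniques.AschSL

open Matrix CfsgLib.Transvec CfsgLib.Techniques.AschPrime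
open scoped MatrixGroups

variable {F : Type*} [Field F] [Fintype F]

/-- The degree of a field of matrices divides the degree. -/
theorem dvd_of_field {n : ℕ} {K : Subalgebra F (Matrix (Fin n) (Fin n) F)} {r : ℕ}
    (hK : Cfsg.Geo.IsFieldSubalgebra r K) (hn : 0 < n) : r ∣ n := by
  classical
  haveI : Nonempty (Fin n) := ⟨⟨0, hn⟩⟩
  haveI : Nontrivial K := ⟨⟨0, 1, fun h => zero_ne_one (α := Matrix (Fin n) (Fin n) F) (congrArg Subtype.val h)⟩⟩
  have hfield : IsField K :=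
    { exists_pair_ne := ⟨0, 1, zero_ne_one⟩
      mul_comm := fun x y => Subtype.ext (hK.comm x x.2 y y.2)
      mul_inv_cancel := fun {x} hx => by
        obtain ⟨y, hy, h⟩ := hK.inv x x.2 fun h => hx (Subtype.ext h)
        exact ⟨⟨y, hy⟩, Subtype.ext h⟩ }
  let act : K →+* Module.End F (Fin n → F) :=
    (Matrix.toLinAlgEquiv' : Matrix (Fin n) (Fin n) F ≃ₐ[F] Module.End F (Fin n → F)).toRingEquiv.toRingHom.comp
      K.val.toRingHom
  letI : Module K (Fin n → F) := Module.compHom _ act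
  have hsmul : ∀ (k : K) (v : Fin n → F), k • v = (k : Matrix (Fin n) (Fin n) F) *ᵥ v := fun k v => by
    change act k v = _
    simp [act, Matrix.toLinAlgEquiv'_apply]
  have ht : IsScalarTower F K (Fin n → F) := ⟨fun c k v => by
    rw [hsmul, hsmul]
    exact Matrix.smul_mulVec c (k : Matrix (Fin n) (Fin n) F) v⟩
  haveI : Module.Free K (Fin n → F) := by
    letI := hfield.toField
    exact Module.Free.of_divisionRing _ _
  haveI : StrongRankCondition K := by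
    letI := hfield.toField
    exact inferInstance
  have hmul := @Module.finrank_mul_finrank F K (Fin n → F) _ _ _ _ _ _ ht _ _ _ _
  rw [Module.finrank_pi, Fintype.card_fin, hK.finrank_eq] at hmul
  exact ⟨_, hmul.symm⟩

/-- The maximal subgroups of the special linear group. -/
theorem sl_max_gen {n : ℕ} (hn : 4 ≤ n) {H : Subgroup (GL (Fin n) F)}
    (hH : Cfsg.Geo.IsMaximalIn (Cfsg.Geo.specialLinear (Fin n) F) H) :
    (∃ W : Submodule F (Fin n → F), W ≠ ⊥ ∧ W ≠ ⊤ ∧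
      H = Cfsg.Geo.subspaceStabilizer W ⊓ Cfsg.Geo.specialLinear (Fin n) F) ∨
    (∃ (t m : ℕ) (D : Fin t → Submodule F (Fin n → F)), Cfsg.Geo.IsMDecomposition m D ∧ t * m = n ∧
      H = Cfsg.Geo.decompositionStabilizer D ⊓ Cfsg.Geo.specialLinear (Fin n) F) ∨
    (∃ (r : ℕ) (K : Subalgebra F (Matrix (Fin n) (Fin n) F)), r.Prime ∧ r ∣ n ∧ Cfsg.Geo.IsFieldSubalgebra r K ∧
      H = Cfsg.Geo.subalgebraNormalizer K ⊓ Cfsg.Geo.specialLinear (Fin n) F) ∨
    (∃ (n₁ n₂ : ℕ) (e : Fin n ≃ Fin n₁ × Fin n₂) (P : GL (Fin n) F), 2 ≤ n₁ ∧ n₁ < n₂ ∧ n₁ * n₂ = n ∧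
      H = Cfsg.Geo.tensorProductSubgroup n₁ n₂ e P ⊓ Cfsg.Geo.specialLinear (Fin n) F) ∨
    (∃ (F₀ : Subfield F) (r : ℕ) (P : GL (Fin n) F), r.Prime ∧ Fintype.card F = Nat.card F₀ ^ r ∧
      H = Cfsg.Geo.subfieldSubgroup F₀ P ⊓ Cfsg.Geo.specialLinear (Fin n) F) ∨
    (∃ (r m : ℕ) (R : Subgroup (GL (Fin n) F)), Cfsg.Geo.IsLinearSymplecticTypeData r R ∧ n = r ^ m ∧
      H = Cfsg.Geo.subgroupNormalizer R ⊓ Cfsg.Geo.specialLinear (Fin n) F) ∨
    (∃ (m t : ℕ) (e : Fin n ≃ (Fin t → Fin m)) (P : GL (Fin n) F), 3 ≤ m ∧ 2 ≤ t ∧ m ^ t = n ∧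
      H = Cfsg.Geo.tensorWreathSubgroup m t e P ⊓ Cfsg.Geo.specialLinear (Fin n) F) ∨
    (Odd (Fintype.card F) ∧ ∃ Q : (Fin n → F) → F, Cfsg.Geo.IsNondegenerateQuadraticForm Q ∧
      H = Cfsg.Geo.quadSimilarityGroup Q ⊓ Cfsg.Geo.specialLinear (Fin n) F) ∨
    (Even n ∧ ∃ f : (Fin n → F) → (Fin n → F) → F, Cfsg.Geo.IsSymplecticForm f ∧
      H = Cfsg.Geo.similarityGroup f ⊓ Cfsg.Geo.specialLinear (Fin n) F) ∨
    (∃ (σ : F ≃+* F) (f : (Fin n → F) → (Fin n → F) → F), Cfsg.Geo.IsUnitaryForm σ f ∧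
      H = Cfsg.Geo.similarityGroup f ⊓ Cfsg.Geo.specialLinear (Fin n) F) ∨
    Cfsg.Geo.InLinearResidualClass H := by
  classical
  haveI : Nonempty (Fin n) := ⟨⟨0, by omega⟩⟩
  have hc3 : 3 ≤ Fintype.card (Fin n) := by rw [Fintype.card_fin]; omega
  have hdet : H ≤ Cfsg.Geo.specialLinear (Fin n) F := hH.1.le
  have hne := sup_scalars_ne hc3 hH
  have hmemb : (∃ M, Cfsg.Geo.InLinearClass n F M ∧ H ≤ M) ∨ Cfsg.Geo.InLinearResidualClass H := by
    rcases CfsgLib.Classical22.Asch.linear_cases (by omega) H with h | h | ⟨hI, N, hNH, hN, -, hmin, habs, h2⟩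
    · exact Or.inl h
    · exact Or.inr h
    · exact Or.inl (CfsgLib.Techniques.AschGen.class_two_member (by omega) hdet hI hNH hN habs h2 hmin)
  rcases hmemb with ⟨M, hM, hle⟩ | h
  swap
  · exact Or.inr (Or.inr (Or.inr (Or.inr (Or.inr (Or.inr (Or.inr (Or.inr (Or.inr (Or.inr h)))))))))
  rcases hM with ⟨W, hW0, hW1, rfl⟩ | ⟨W, U, hW0, hWU, -, rfl⟩ | ⟨W, U, hW0, -, -, hlt, rfl⟩ |
    ⟨t, m, D, hD, rfl⟩ | ⟨r, K, hr, hK, rfl⟩ | ⟨n₁, n₂, e, P, h1, h2, rfl⟩ | ⟨F₀, r, P, hr, hcard, rfl⟩ |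
    ⟨r, R, hR, rfl⟩ | ⟨m, t, e, P, hm, ht, rfl⟩ | ⟨f, hf, heven, -, rfl⟩ | ⟨σ, f, hf, -, rfl⟩ |
    ⟨Q, hQ, hodd, -, rfl⟩
  · exact Or.inl ⟨W, hW0, hW1, eq_inf_of_le hH hle (not_le_subspaceStabilizer hW0 hW1)⟩
  · exact Or.inl ⟨W, hW0, hWU.ne_top, eq_inf_of_le hH (hle.trans inf_le_left)
      (not_le_subspaceStabilizer hW0 hWU.ne_top)⟩
  · have hW1 : W ≠ ⊤ := fun h => by
      have := Submodule.finrank_le U
      rw [h, finrank_top] at hlt
      omega
    exact Or.inl ⟨W, hW0, hW1, eq_inf_of_le hH (hle.trans inf_le_left) (not_le_subspaceStabilizer hW0 hW1)⟩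
  · refine Or.inr (Or.inl ⟨t, m, D, hD, ?_, eq_inf_of_le hH hle (not_le_decompositionStabilizer hD)⟩)
    have h := CfsgLib.Techniques.AschPrime.finrank_iSup_eq_sum D hD.indep hD.iSup_eq_top
    simpa [hD.finrank_eq] using h
  · exact Or.inr (Or.inr (Or.inl ⟨r, K, hr, dvd_of_field hK (by omega), hK,
      eq_inf_of_le hH hle (not_specialLinear_le_subalgebraNormalizer hc3 hK hr.one_lt)⟩))
  · refine Or.inr (Or.inr (Or.inr (Or.inl ⟨n₁, n₂, e, P, h1, h2, ?_,
      eq_inf_of_le hH hle (not_le_tensorProductSubgroup h1 (by omega) e P)⟩)))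
    simpa using (Fintype.card_congr e).symm
  · refine Or.inr (Or.inr (Or.inr (Or.inr (Or.inl ⟨F₀, r, P, hr, hcard,
      eq_inf_of_le hH hle (not_specialLinear_le_subfieldSubgroup (by omega) (fun htop => ?_) P)⟩))))
    rw [htop, Nat.card_congr (Equiv.subtypeUnivEquiv fun x => Subfield.mem_top x), Nat.card_eq_fintype_card] at hcard
    exact hr.one_lt.ne' ((Nat.pow_eq_self_iff Fintype.one_lt_card).mp hcard.symm)
  · obtain ⟨m, hm⟩ := exists_degree_eq_pow hR hc3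
    rw [Fintype.card_fin] at hm
    obtain ⟨p, e, hrp, ⟨hp, hchar, -⟩, -⟩ := hR.field
    haveI := hchar
    exact Or.inr (Or.inr (Or.inr (Or.inr (Or.inr (Or.inl ⟨r, m, R, hR, hm, eq_inf_of_le hH hle
      (not_le_normalizer (by rw [Fintype.card_fin]; omega) hp hrp hR.symplecticType.prime hR.symplecticType.pGroup
        hR.absIrred.1)⟩)))))
  · refine Or.inr (Or.inr (Or.inr (Or.inr (Or.inr (Or.inr (Or.inl ⟨m, t, e, P, hm, ht, ?_,
      eq_inf_of_le hH hle (not_le_tensorWreathSubgroup (by omega) ht e P)⟩))))))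
    simpa using (Fintype.card_congr e).symm
  · exact Or.inr (Or.inr (Or.inr (Or.inr (Or.inr (Or.inr (Or.inr (Or.inr (Or.inl ⟨heven, f, hf,
      eq_inf_of_le hH hle (not_specialLinear_le_similarity hc3 (IsSesq.of_bilinear hf.bilinear)
        hf.nondegenerate)⟩))))))))
  · exact Or.inr (Or.inr (Or.inr (Or.inr (Or.inr (Or.inr (Or.inr (Or.inr (Or.inr (Or.inl ⟨σ, f, hf,
      eq_inf_of_le hH hle (not_specialLinear_le_similarity hc3 (IsSesq.of_unitary hf)
        hf.nondegenerate)⟩)))))))))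
  · exact Or.inr (Or.inr (Or.inr (Or.inr (Or.inr (Or.inr (Or.inr (Or.inl ⟨hodd, Q, hQ,
      eq_inf_of_le hH hle fun h => not_specialLinear_le_similarity hc3 (IsSesq.of_bilinear hQ.polar_bilinear)
        hQ.nondegenerate (h.trans (quadSimilarity_le _))⟩)))))))

/-- A decomposition into lines needs at least five field elements, up to the other classes. -/
theorem lines_cases {n : ℕ} (hn : 4 ≤ n) {H : Subgroup (GL (Fin n) F)}
    (hH : Cfsg.Geo.IsMaximalIn (Cfsg.Geo.specialLinear (Fin n) F) H) {D : Fin n → Submodule F (Fin n → F)}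
    (hD : Cfsg.Geo.IsMDecomposition 1 D)
    (heq : H = Cfsg.Geo.decompositionStabilizer D ⊓ Cfsg.Geo.specialLinear (Fin n) F) :
    5 ≤ Fintype.card F ∨
    (∃ W : Submodule F (Fin n → F), W ≠ ⊥ ∧ W ≠ ⊤ ∧
      H = Cfsg.Geo.subspaceStabilizer W ⊓ Cfsg.Geo.specialLinear (Fin n) F) ∨
    (Odd (Fintype.card F) ∧ ∃ Q : (Fin n → F) → F, Cfsg.Geo.IsNondegenerateQuadraticForm Q ∧
      H = Cfsg.Geo.quadSimilarityGroup Q ⊓ Cfsg.Geo.specialLinear (Fin n) F) ∨
    (∃ (σ : F ≃+* F) (f : (Fin n → F) → (Fin n → F) → F), Cfsg.Geo.IsUnitaryForm σ f ∧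
      H = Cfsg.Geo.similarityGroup f ⊓ Cfsg.Geo.specialLinear (Fin n) F) := by
  haveI : Nonempty (Fin n) := ⟨⟨0, by omega⟩⟩
  have hc3 : 3 ≤ Fintype.card (Fin n) := by rw [Fintype.card_fin]; omega
  by_cases h5 : 5 ≤ Fintype.card F
  · exact Or.inl h5
  rcases monomial_small (by omega) (Fintype.card_fin n) hD (H := H) (heq.le.trans inf_le_left) (by omega) with
    ⟨W, h0, h1, h⟩ | ⟨hodd, Q, hQ, h⟩ | ⟨σ, f, hf, h⟩
  · exact Or.inr (Or.inl ⟨W, h0, h1, eq_inf_of_le hH h (not_le_subspaceStabilizer h0 h1)⟩)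
  · exact Or.inr (Or.inr (Or.inl ⟨hodd, Q, hQ, eq_inf_of_le hH h fun h' => not_specialLinear_le_similarity hc3
      (IsSesq.of_bilinear hQ.polar_bilinear) hQ.nondegenerate (h'.trans (quadSimilarity_le _))⟩))
  · exact Or.inr (Or.inr (Or.inr ⟨σ, f, hf, eq_inf_of_le hH h
      (not_specialLinear_le_similarity hc3 (IsSesq.of_unitary hf) hf.nondegenerate)⟩))

/-- A decomposition into planes needs at least three field elements, or is symplectic. -/
theorem planes_cases {n t : ℕ} (hn : 4 ≤ n) {H : Subgroup (GL (Fin n) F)}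
    (hH : Cfsg.Geo.IsMaximalIn (Cfsg.Geo.specialLinear (Fin n) F) H) {D : Fin t → Submodule F (Fin n → F)}
    (hD : Cfsg.Geo.IsMDecomposition 2 D)
    (heq : H = Cfsg.Geo.decompositionStabilizer D ⊓ Cfsg.Geo.specialLinear (Fin n) F)
    (hq : Fintype.card F = 2 ∨ (t = 2 ∧ Fintype.card F = 3)) :
    ∃ f : (Fin n → F) → (Fin n → F) → F, Cfsg.Geo.IsSymplecticForm f ∧
      H = Cfsg.Geo.similarityGroup f ⊓ Cfsg.Geo.specialLinear (Fin n) F := by
  obtain ⟨f, hf, h⟩ := planes_small hD hH.1.le (heq.le.trans inf_le_left) hq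
  exact ⟨f, hf, eq_inf_of_le hH h (not_specialLinear_le_similarity (by rw [Fintype.card_fin]; omega)
    (IsSesq.of_bilinear hf.bilinear) hf.nondegenerate)⟩

/-- A tensor product with a plane needs at least three field elements, or normalises a quadratic field. -/
theorem tensor_two_cases {n b : ℕ} (hn : 4 ≤ n) (hb : 0 < b) {H : Subgroup (GL (Fin n) F)}
    (hH : Cfsg.Geo.IsMaximalIn (Cfsg.Geo.specialLinear (Fin n) F) H) (e : Fin n ≃ Fin 2 × Fin b) (P : GL (Fin n) F)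
    (heq : H = Cfsg.Geo.tensorProductSubgroup 2 b e P ⊓ Cfsg.Geo.specialLinear (Fin n) F) :
    3 ≤ Fintype.card F ∨ ∃ K : Subalgebra F (Matrix (Fin n) (Fin n) F), Cfsg.Geo.IsFieldSubalgebra 2 K ∧
      H = Cfsg.Geo.subalgebraNormalizer K ⊓ Cfsg.Geo.specialLinear (Fin n) F := by
  by_cases h3 : 3 ≤ Fintype.card F
  · exact Or.inl h3
  have h1 := Fintype.one_lt_card (α := F)
  obtain ⟨K, hK, h⟩ := tensor_two_small (show Fintype.card F = 2 by omega) hb e P
  exact Or.inr ⟨K, hK, eq_inf_of_le hH ((heq.le.trans inf_le_left).trans h)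
    (not_specialLinear_le_subalgebraNormalizer (by rw [Fintype.card_fin]; omega) hK (by norm_num))⟩

/-- In prime power degree the field of definition of a group of symplectic type is small. -/
theorem symplecticType_field {n r : ℕ} {R : Subgroup (GL (Fin n) F)} (hn : 4 ≤ n)
    (hR : Cfsg.Geo.IsLinearSymplecticTypeData r R) :
    ∃ p : ℕ, p.Prime ∧ CharP F p ∧
      ((r = 2 → Fintype.card F = p ∧ p % 4 = 1) ∧ (r = 3 → Fintype.card F = p ∧ p % 3 = 1)) := by
  obtain ⟨p, e, hrp, ⟨hp, hchar, hcard, hdiv, hmin⟩, hcase⟩ := hR.field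
  refine ⟨p, hp, hchar, fun h2 => ?_, fun h3 => ?_⟩
  · subst h2
    rcases hcase with ⟨hodd, -⟩ | ⟨-, he, hz, -⟩ | ⟨-, -, h, -⟩
    · exact absurd hodd (by decide)
    · rw [he, pow_one] at hcard hdiv
      rw [hz] at hdiv
      have := hp.two_le
      exact ⟨hcard, by omega⟩
    · rw [Fintype.card_fin] at h; omega
  · subst h3
    rcases hcase with ⟨-, hoe, hz, -⟩ | ⟨h, -⟩ | ⟨h, -⟩
    · rw [hz] at hdiv hmin
      have hp3 : p % 3 = 1 ∨ p % 3 = 2 := by
        have : ¬ 3 ∣ p := fun h => hrp ((Nat.prime_dvd_prime_iff_eq Nat.prime_three hp).mp h)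
        omega
      have hsq : 3 ∣ p ^ 2 - 1 := by
        have h := Nat.pow_mod p 2 3
        have : p ^ 2 % 3 = 1 := by rcases hp3 with h' | h' <;> rw [h, h'] <;> rfl
        omega
      have he : e = 1 := by
        obtain ⟨k, hk⟩ := hoe
        by_contra hne
        exact hmin 2 two_pos (by omega) hsq
      rw [he, pow_one] at hcard hdiv
      have := hp.two_le
      exact ⟨hcard, by omega⟩
    · norm_num at h
    · norm_num at h

end CfsgLib.Techniques.AschSL
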