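/-
In degree four over five elements monomial groups lie in the normaliser of the projective Pauli group.
-/
import Cfsg.Agent.Lib.Techniques.AschPrime.Mono
import Cfsg.Agent.Lib.Techniques.AschPrime.SL

set_option autoImplicit false

namespace CfsgLib.Techniques.AschSL

open Matrix CfsgLib.Transvec CfsgLib.Techniques.AschPrime
open scoped MatrixGroups

/-- The translations of four points. -/
def tr : Fin 4 → Fin 4 → Fin 4 := ![![0, 1, 2, 3], ![1, 0, 3, 2], ![2, 3, 0, 1], ![3, 2, 1, 0]]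

/-- The characters of the four-group. -/
def chz : Fin 4 → Fin 4 → ℤ := ![![1, 1, 1, 1], ![1, -1, 1, -1], ![1, 1, -1, -1], ![1, -1, -1, 1]]

theorem chz_pm : ∀ b j, chz b j = 1 ∨ chz b j = -1 := by decide

theorem chz_mul : ∀ b c j, chz b j * chz c j = chz (tr b c) j := by decide

theorem perm_compat_tr : ∀ f : Fin 4 → Fin 4, (∀ i j, f i = f j → i = j) →
    ∀ a, ∃ a', ∀ j, f (tr a j) = tr a' (f j) := by
  decide +kernel

theorem perm_compat_chz : ∀ f : Fin 4 → Fin 4, (∀ i j, f i = f j → i = j) →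
    ∀ b, ∃ b', (∀ j, chz b j = chz b' (f j)) ∨ ∀ j, chz b j = -chz b' (f j) := by
  decide +kernel

theorem chz_symm : ∀ a b, chz a b = chz b a := by decide

theorem tr_two_three : ∀ a, 0 = tr a 2 → 0 ≠ tr a 3 := by decide

theorem hadamard_conj : ∀ a b i j : Fin 4,
    chz i (tr a j) * chz b j = chz a b * (chz a (tr b i) * chz (tr b i) j) ∧ tr b (tr b i) = i := by decide

variable {F : Type*} [Field F]

/-- The character values in the field. -/
def ch (b j : Fin 4) : F := (chz b j : F)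

theorem ch_pm (b j : Fin 4) : ch (F := F) b j = 1 ∨ ch (F := F) b j = -1 := by
  rcases chz_pm b j with h | h <;> simp [ch, h]

theorem ch_ne_zero (b j : Fin 4) : ch (F := F) b j ≠ 0 := by
  rcases ch_pm (F := F) b j with h | h <;> simp [h]

theorem ch_mul (b c j : Fin 4) : ch (F := F) b j * ch c j = ch (tr b c) j := by
  simp only [ch, ← chz_mul b c j, Int.cast_mul]

/-- The monomial matrix of a translation and a character. -/
def pauli (a b : Fin 4) : Matrix (Fin 4) (Fin 4) F := Matrix.of fun i j => if i = tr a j then ch b j else 0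

/-- The non-zero multiples of the Pauli matrices. -/
def IsPauli (M : Matrix (Fin 4) (Fin 4) F) : Prop := ∃ (a b : Fin 4) (c : F), c ≠ 0 ∧ M = c • pauli a b

/-- The normaliser of the projective Pauli group. -/
def pauliNormalizer : Subgroup (GL (Fin 4) F) where
  carrier := {g | ∀ k : Matrix (Fin 4) (Fin 4) F,
    IsPauli k ↔ IsPauli ((g : Matrix (Fin 4) (Fin 4) F) * k * ((g⁻¹ : GL (Fin 4) F) : Matrix (Fin 4) (Fin 4) F))}
  mul_mem' {a b} ha hb := by
    intro k
    rw [hb k, ha, Units.val_mul, _root_.mul_inv_rev, Units.val_mul]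
    constructor <;> intro h <;> simpa [mul_assoc] using h
  one_mem' := by
    intro k
    simp
  inv_mem' {a} ha := by
    intro k
    have h := ha (((a⁻¹ : GL (Fin 4) F) : Matrix (Fin 4) (Fin 4) F) * k * (a : Matrix (Fin 4) (Fin 4) F))
    rw [inv_inv]
    rw [h]
    constructor <;> intro h' <;>
      simpa [mul_assoc, ← Units.val_mul] using h'

theorem mem_pauliNormalizer {g : GL (Fin 4) F}
    (h1 : ∀ a b, ∃ (a' b' : Fin 4) (c : F), c ≠ 0 ∧
      (g : Matrix (Fin 4) (Fin 4) F) * pauli a b = c • (pauli a' b' * (g : Matrix (Fin 4) (Fin 4) F)))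
    (h2 : ∀ a b, ∃ (a' b' : Fin 4) (c : F), c ≠ 0 ∧
      ((g⁻¹ : GL (Fin 4) F) : Matrix (Fin 4) (Fin 4) F) * pauli a b =
        c • (pauli a' b' * ((g⁻¹ : GL (Fin 4) F) : Matrix (Fin 4) (Fin 4) F))) :
    g ∈ pauliNormalizer := by
  have key : ∀ g : GL (Fin 4) F, (∀ a b, ∃ (a' b' : Fin 4) (c : F), c ≠ 0 ∧
      (g : Matrix (Fin 4) (Fin 4) F) * pauli a b = c • (pauli a' b' * (g : Matrix (Fin 4) (Fin 4) F))) →
      ∀ k, IsPauli k → IsPauli ((g : Matrix (Fin 4) (Fin 4) F) * k * ((g⁻¹ : GL (Fin 4) F) : Matrix (Fin 4) (Fin 4) F)) := by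
    rintro g hg _ ⟨a, b, d, hd, rfl⟩
    obtain ⟨a', b', c, hc, h⟩ := hg a b
    refine ⟨a', b', d * c, mul_ne_zero hd hc, ?_⟩
    rw [Matrix.mul_smul, Matrix.smul_mul, h, Matrix.smul_mul, Matrix.mul_assoc, Units.mul_inv, Matrix.mul_one, smul_smul]
  intro k
  refine ⟨key g h1 k, fun hk => ?_⟩
  have h := key g⁻¹ h2 _ hk
  simpa [Matrix.mul_assoc] using h

theorem exists_char {x y : F} (hs : x * x = 1 ∨ x * x = -1) (hy : y = x⁻¹ ∨ y = -x⁻¹) (hx : x ≠ 0) :
    ∃ b₁ b₂ b₃ : Fin 4,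
      (∀ j, ![x, x⁻¹, y, y⁻¹] j = x * ch b₁ j) ∧ (∀ j, ![x, y, x⁻¹, y⁻¹] j = x * ch b₂ j) ∧
        ∀ j, ![x, y, y⁻¹, x⁻¹] j = x * ch b₃ j := by
  have hinv : (x⁻¹ = x) ∨ (x⁻¹ = -x) := by
    rcases hs with h | h
    · exact Or.inl (inv_eq_of_mul_eq_one_right h)
    · exact Or.inr (inv_eq_of_mul_eq_one_right (by rw [mul_neg, h, neg_neg]))
  rcases hinv with hi | hi <;> rcases hy with rfl | rfl
  · exact ⟨0, 0, 0, fun j => by fin_cases j <;> simp [ch, chz, hi], fun j => by fin_cases j <;> simp [ch, chz, hi],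
      fun j => by fin_cases j <;> simp [ch, chz, hi]⟩
  · exact ⟨2, 1, 3, fun j => by fin_cases j <;> simp [ch, chz, hi, inv_neg], fun j => by fin_cases j <;> simp [ch, chz, hi, inv_neg],
      fun j => by fin_cases j <;> simp [ch, chz, hi, inv_neg]⟩
  · exact ⟨3, 3, 1, fun j => by fin_cases j <;> simp [ch, chz, hi, inv_neg], fun j => by fin_cases j <;> simp [ch, chz, hi, inv_neg],
      fun j => by fin_cases j <;> simp [ch, chz, hi, inv_neg]⟩
  · exact ⟨1, 2, 2, fun j => by fin_cases j <;> simp [ch, chz, hi, inv_neg], fun j => by fin_cases j <;> simp [ch, chz, hi, inv_neg],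
      fun j => by fin_cases j <;> simp [ch, chz, hi, inv_neg]⟩

variable [Fintype F]

theorem sq_pm (h5 : Fintype.card F = 5) {z : F} (hz : z ≠ 0) : z * z = 1 ∨ z * z = -1 := by
  have h := FiniteField.pow_card_sub_one_eq_one z hz
  rw [h5] at h
  change z ^ 4 = 1 at h
  exact mul_self_eq_one_iff.mp (by rw [← h]; ring)

/-- The ratios along a translation form a multiple of a character. -/
theorem ratio_char (h5 : Fintype.card F = 5) {d : Fin 4 → F} (hd : ∀ j, d j ≠ 0)
    (hprod : (∏ j, d j) = 1 ∨ (∏ j, d j) = -1) (a : Fin 4) :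
    ∃ (b : Fin 4) (c : F), c ≠ 0 ∧ ∀ j, d (tr a j) / d j = c * ch b j := by
  rw [Fin.prod_univ_four] at hprod
  have key : ∀ p q r s : Fin 4, d p * d q * d r * d s = 1 ∨ d p * d q * d r * d s = -1 →
      (d s / d r = (d q / d p)⁻¹ ∨ d s / d r = -(d q / d p)⁻¹) ∧
        (d q / d p * (d q / d p) = 1 ∨ d q / d p * (d q / d p) = -1) := by
    intro p q r s hpr
    refine ⟨?_, sq_pm h5 (div_ne_zero (hd q) (hd p))⟩
    have hp := hd p; have hq := hd q; have hr := hd r; have hs := hd s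
    have hxy : d s / d r = d p * d q * d r * d s / ((d p * d r) * (d p * d r)) * (d q / d p)⁻¹ := by field_simp
    rcases hpr with h | h <;> rcases sq_pm h5 (mul_ne_zero hp hr) with h' | h' <;>
      rw [hxy, h, h'] <;> simp
  rcases (show a = 0 ∨ a = 1 ∨ a = 2 ∨ a = 3 by revert a; decide) with rfl | rfl | rfl | rfl
  · exact ⟨0, 1, one_ne_zero, fun j => by fin_cases j <;> simp [tr, ch, chz, hd]⟩
  · obtain ⟨hy, hs⟩ := key 0 1 2 3 hprod
    obtain ⟨b, -, -, hb, -, -⟩ := exists_char hs hy (div_ne_zero (hd 1) (hd 0))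
    exact ⟨b, _, div_ne_zero (hd 1) (hd 0), fun j => by rw [← hb j]; fin_cases j <;> simp [tr, inv_div]⟩
  · obtain ⟨hy, hs⟩ := key 0 2 1 3 (by rwa [show d 0 * d 2 * d 1 * d 3 = d 0 * d 1 * d 2 * d 3 by ring])
    obtain ⟨-, b, -, -, hb, -⟩ := exists_char hs hy (div_ne_zero (hd 2) (hd 0))
    exact ⟨b, _, div_ne_zero (hd 2) (hd 0), fun j => by rw [← hb j]; fin_cases j <;> simp [tr, inv_div]⟩
  · obtain ⟨hy, hs⟩ := key 0 3 1 2 (by rwa [show d 0 * d 3 * d 1 * d 2 = d 0 * d 1 * d 2 * d 3 by ring])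
    obtain ⟨-, -, b, -, -, hb⟩ := exists_char hs hy (div_ne_zero (hd 3) (hd 0))
    exact ⟨b, _, div_ne_zero (hd 3) (hd 0), fun j => by rw [← hb j]; fin_cases j <;> simp [tr, inv_div]⟩

theorem monomial_conj (h5 : Fintype.card F = 5) {π : Equiv.Perm (Fin 4)} {d : Fin 4 → F} (hd : ∀ j, d j ≠ 0)
    {M : Matrix (Fin 4) (Fin 4) F} (hM : M = fun i j => if i = π j then d j else 0) (hdet : M.det = 1) (a b : Fin 4) :
    ∃ (a' b' : Fin 4) (c : F), c ≠ 0 ∧ M * pauli a b = c • (pauli a' b' * M) := by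
  classical
  have hM' : M = (Matrix.diagonal d).submatrix π.symm id := by
    rw [hM]; ext i j
    by_cases h : i = π j
    · subst h; simp
    · have hne : π.symm i ≠ j := fun h' => h (by rw [← h', Equiv.apply_symm_apply])
      simp [h, Matrix.diagonal_apply_ne _ hne]
  have hprod : (∏ j, d j) = 1 ∨ (∏ j, d j) = -1 := by
    have h := hdet
    rw [hM', Matrix.det_permute, Matrix.det_diagonal] at h
    rcases Int.units_eq_one_or (Equiv.Perm.sign π.symm) with hs | hs <;> rw [hs] at h <;> simp at h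
    · exact Or.inl h
    · exact Or.inr (by linear_combination -h)
  obtain ⟨r, c, hc, hr⟩ := ratio_char h5 hd hprod a
  obtain ⟨a', ha'⟩ := perm_compat_tr π (fun _ _ h => π.injective h) a
  obtain ⟨b', hb'⟩ := perm_compat_chz π (fun _ _ h => π.injective h) (tr r b)
  obtain ⟨e, he, heq⟩ : ∃ e : F, e ≠ 0 ∧ ∀ j, ch (tr r b) j = e * ch b' (π j) := by
    rcases hb' with h | h
    · exact ⟨1, one_ne_zero, fun j => by simp only [ch, h j, one_mul]⟩
    · exact ⟨-1, neg_ne_zero.mpr one_ne_zero, fun j => by simp only [ch, h j, Int.cast_neg, neg_mul, one_mul]⟩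
  refine ⟨a', b', c * e, mul_ne_zero hc he, ?_⟩
  have hMe : ∀ i j, M i j = if i = π j then d j else 0 := fun i j => by rw [hM]
  ext i j
  simp only [Matrix.mul_apply, Matrix.smul_apply, smul_eq_mul, pauli, Matrix.of_apply, hMe]
  rw [Finset.sum_eq_single (tr a j) (fun k _ hk => by simp [hk]) (by simp),
    Finset.sum_eq_single (π j) (fun k _ hk => by simp [hk]) (by simp)]
  simp only [if_true]
  have h1 : π (tr a j) = tr a' (π j) := ha' j
  rw [h1]
  by_cases hi : i = tr a' (π j)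
  · rw [if_pos hi, if_pos hi]
    have h2 := hr j
    rw [div_eq_iff (hd j)] at h2
    rw [h2, show c * e * (ch b' (π j) * d j) = c * d j * (e * ch b' (π j)) by ring, ← heq, ← ch_mul]
    ring
  · rw [if_neg hi, if_neg hi]; simp

omit [Fintype F] in
theorem hadamard_pauli (a b : Fin 4) :
    (Matrix.of fun i j => ch (F := F) i j) * pauli a b =
      ch (F := F) a b • (pauli b a * Matrix.of fun i j => ch (F := F) i j) := by
  ext i j
  simp only [Matrix.mul_apply, Matrix.smul_apply, smul_eq_mul, pauli, Matrix.of_apply]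
  rw [Finset.sum_eq_single (tr a j) (fun k _ hk => by simp [hk]) (by simp),
    Finset.sum_eq_single (tr b i) (fun k _ hk => by
      rw [if_neg fun h => hk (by rw [h, (hadamard_conj a b k j).2]), zero_mul]) (by simp), if_pos rfl,
    if_pos (hadamard_conj a b i j).2.symm]
  simp only [ch, ← Int.cast_mul, (hadamard_conj a b i j).1]

/-- The monomial stabiliser is not maximal in degree four over five elements. -/
theorem not_maximal_lines (h5 : Fintype.card F = 5) {D : Fin 4 → Submodule F (Fin 4 → F)}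
    (hD : Cfsg.Geo.IsMDecomposition 1 D) {H : Subgroup (GL (Fin 4) F)}
    (hH : Cfsg.Geo.IsMaximalIn (Cfsg.Geo.specialLinear (Fin 4) F) H)
    (heq : H = Cfsg.Geo.decompositionStabilizer D ⊓ Cfsg.Geo.specialLinear (Fin 4) F) : False := by
  classical
  obtain ⟨B, e, hB⟩ := exists_coords (Fintype.card_fin 4) hD
  have h50 : (5 : F) = 0 := by
    have := FiniteField.cast_card_eq_zero F
    rw [h5] at this
    exact_mod_cast this
  have h20 : (2 : F) ≠ 0 := fun h => one_ne_zero (α := F) (by linear_combination h50 - 2 * h)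
  set Wm : Matrix (Fin 4) (Fin 4) F := Matrix.of fun i j => ch i j with hWm
  have hWdet : Wm.det = 1 := by
    rw [hWm, Matrix.det_succ_row_zero]
    simp [Fin.sum_univ_four, Matrix.det_fin_three, ch, chz, Fin.succAbove]
    linear_combination 3 * h50
  set W : GL (Fin 4) F := Matrix.GeneralLinearGroup.mk'' Wm (by rw [hWdet]; exact isUnit_one) with hW
  let X : Subgroup (GL (Fin 4) F) := pauliNormalizer.comap (MulAut.conj B).toMonoidHom
  have hsame : Cfsg.Geo.specialLinear (Fin 4) F ≤ (Cfsg.Geo.specialLinear (Fin 4) F).comap (MulAut.conj B).toMonoidHom :=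
    fun g hg => (MonoidHom.normal_ker _).conj_mem g hg B
  have hmem : ∀ h ∈ H, h ∈ X := by
    intro h hh
    have key : ∀ h ∈ H, ∀ a b, ∃ (a' b' : Fin 4) (c : F), c ≠ 0 ∧
        ((B * h * B⁻¹ : GL (Fin 4) F) : Matrix (Fin 4) (Fin 4) F) * pauli a b =
          c • (pauli a' b' * ((B * h * B⁻¹ : GL (Fin 4) F) : Matrix (Fin 4) (Fin 4) F)) := by
      intro h hh a b
      rw [heq] at hh
      obtain ⟨π, d, hd, hMd⟩ := monoB_of_stab hD hB hh.1
      refine monomial_conj h5 hd (π := π) (by rw [← hMd, Units.val_mul, Units.val_mul]) ?_ a b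
      exact (mem_specialLinear_iff _).mp (hsame hh.2)
    refine mem_pauliNormalizer (key h hh) ?_
    change ∀ a b, ∃ (a' b' : Fin 4) (c : F), c ≠ 0 ∧ (((B * h * B⁻¹)⁻¹ : GL (Fin 4) F) : Matrix (Fin 4) (Fin 4) F) * pauli a b = c • (pauli a' b' * (((B * h * B⁻¹)⁻¹ : GL (Fin 4) F) : Matrix (Fin 4) (Fin 4) F))
    rw [show (B * h * B⁻¹)⁻¹ = B * h⁻¹ * B⁻¹ by group]
    exact key h⁻¹ (H.inv_mem hh)
  set g : GL (Fin 4) F := B⁻¹ * W * B with hg
  have hgB : B * g * B⁻¹ = W := by rw [hg]; group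
  have hgX : g ∈ X := by
    change B * g * B⁻¹ ∈ pauliNormalizer
    rw [hgB]
    have h1 : ∀ a b, ∃ (a' b' : Fin 4) (c : F), c ≠ 0 ∧
        (W : Matrix (Fin 4) (Fin 4) F) * pauli a b = c • (pauli a' b' * (W : Matrix (Fin 4) (Fin 4) F)) :=
      fun a b => ⟨b, a, ch a b, ch_ne_zero a b, hadamard_pauli a b⟩
    refine mem_pauliNormalizer h1 fun a b => ⟨b, a, ch a b * (ch b a * ch b a), mul_ne_zero (ch_ne_zero _ _) (mul_ne_zero (ch_ne_zero _ _) (ch_ne_zero _ _)), ?_⟩
    have hsq : ch (F := F) b a * ch b a = 1 := by rcases ch_pm (F := F) b a with h | h <;> simp [h]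
    have hab : ch (F := F) a b * ch b a = 1 := by
      have : chz a b = chz b a := chz_symm a b
      simp only [ch, this]
      exact hsq
    have h := hadamard_pauli (F := F) b a
    rw [hsq, mul_one]
    have h' : (W : Matrix (Fin 4) (Fin 4) F) * pauli b a = ch b a • (pauli a b * (W : Matrix (Fin 4) (Fin 4) F)) := h
    have h'' := congrArg (fun Y => ((W⁻¹ : GL (Fin 4) F) : Matrix (Fin 4) (Fin 4) F) * Y *
      ((W⁻¹ : GL (Fin 4) F) : Matrix (Fin 4) (Fin 4) F)) h'
    simp only [Matrix.mul_smul, Matrix.smul_mul, ← Matrix.mul_assoc, Units.inv_mul, Matrix.one_mul] at h''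
    rw [Matrix.mul_assoc (_ * pauli a b) (W : Matrix (Fin 4) (Fin 4) F), Units.mul_inv, Matrix.mul_one] at h''
    rw [h'', smul_smul, hab, one_smul]
  have hgSL : g ∈ Cfsg.Geo.specialLinear (Fin 4) F := by
    have hWmem : W ∈ Cfsg.Geo.specialLinear (Fin 4) F := (mem_specialLinear_iff _).mpr hWdet
    have := (MonoidHom.normal_ker (Matrix.GeneralLinearGroup.det : GL (Fin 4) F →* Fˣ)).conj_mem W hWmem B⁻¹
    rwa [inv_inv, ← hg] at this
  have hgH : g ∉ H := by
    intro hgH
    rw [heq] at hgH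
    obtain ⟨π, d, -, hMd⟩ := monoB_of_stab hD hB hgH.1
    rw [← Units.val_mul, ← Units.val_mul, hgB] at hMd
    have h0 := congrFun (congrFun hMd 0) 0
    have h1 := congrFun (congrFun hMd 1) 0
    simp [hW, hWm, ch, chz] at h0 h1
    by_cases hπ : (0 : Fin 4) = π 0
    · rw [if_neg (fun h => absurd (h.trans hπ.symm) (by decide))] at h1
      exact one_ne_zero h1
    · rw [if_neg hπ] at h0
      exact one_ne_zero h0
  rcases hH.2 (X ⊓ Cfsg.Geo.specialLinear (Fin 4) F) (le_inf hmem hH.1.le) inf_le_right with h | h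
  · exact hgH (h ▸ ⟨hgX, hgSL⟩)
  · -- a transvection outside
    let t : GL (Fin 4) F := transv (Pi.single 0 1) (Pi.single 1 1)
    have hd : (Pi.single 1 1 : Fin 4 → F) ⬝ᵥ Pi.single 0 1 = 0 := by simp
    have ht : B⁻¹ * t * B ∈ X ⊓ Cfsg.Geo.specialLinear (Fin 4) F := by
      rw [h]
      have := (MonoidHom.normal_ker (Matrix.GeneralLinearGroup.det : GL (Fin 4) F →* Fˣ)).conj_mem t
        (transv_mem_specialLinear (Pi.single 0 1) (Pi.single 1 1)) B⁻¹
      rwa [inv_inv] at this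
    have ht' : t ∈ pauliNormalizer := by
      have := ht.1
      change B * (B⁻¹ * t * B) * B⁻¹ ∈ pauliNormalizer at this
      rwa [show B * (B⁻¹ * t * B) * B⁻¹ = t by group] at this
    obtain ⟨a, b, c, hc, hP⟩ := (ht' (pauli 2 0)).mp ⟨2, 0, 1, one_ne_zero, by simp⟩
    have h2 := congrFun (congrFun hP 0) 2
    have h3 := congrFun (congrFun hP 0) 3
    rw [transv_inv hd] at h2 h3
    rw [transv_val hd, transv_val (by rw [neg_dotProduct, hd, neg_zero])] at h2 h3
    simp [pauli, Matrix.mul_apply, Fin.sum_univ_four, vecMulVec_apply, ch, chz, tr, Matrix.one_apply] at h2 h3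
    by_cases ha : (0 : Fin 4) = tr a 2
    · have : (0 : Fin 4) ≠ tr a 3 := tr_two_three a ha
      simp [tr] at this ha
      simp [this] at h3
    · simp [tr] at ha
      simp [ha] at h2

end CfsgLib.Techniques.AschSL
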